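import Groth.Agent.Lib.DimFun18.Primary
import Groth.Agent.Lib.CdP18.Const
import Groth.Agent.Lib.FinEnv6.Stage
import Groth.Agent.Lib.RedSub.Basic

/-!
# Dimension functions on integral schemes finite over a base
-/

set_option autoImplicit false
set_option backward.isDefEq.respectTransparency false
set_option backward.isDefEq.respectTransparency.types false
set_option linter.style.haveILetI false
set_option linter.all false

universe u

open CategoryTheory CategoryTheory.Limits CategoryTheory.Abelian AlgebraicGeometry Opposite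
open GrothLib.EtSite GrothLib.EtTrace21 GrothLib.GalCd GrothLib.EtColim GrothLib.CdP18

noncomputable section

namespace GrothLib.DimFun18

/-- The closure of a point as an integral closed subscheme. -/
theorem exists_integral_closureOf {T : Scheme.{u}} (t : T) :
    ∃ (Z : Scheme.{u}) (c : Z ⟶ T), IsClosedImmersion c ∧ IsIntegral Z ∧ Set.range c.base = closure {t} := by
  let C : TopologicalSpace.Closeds T := ⟨closure {t}, isClosed_closure⟩
  let j := (Scheme.IdealSheafData.vanishingIdeal C).subschemeι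
  have hr : Set.range j.base = closure {t} := GrothLib.RedSub.range_subschemeι_vanishingIdeal C
  haveI : IrreducibleSpace (Set.range j) := Subtype.irreducibleSpace (hr ▸ isIrreducible_singleton.closure)
  let e := j.isClosedEmbedding.isEmbedding.toHomeomorph.symm
  haveI : IrreducibleSpace (Scheme.IdealSheafData.vanishingIdeal C).subscheme := by
    rw [irreducibleSpace_def, Set.top_eq_univ, ← e.surjective.range_eq, ← Set.image_univ]
    exact (IrreducibleSpace.isIrreducible_univ _).image e e.continuous.continuousOn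
  haveI := GrothLib.RedSub.isReduced_subscheme_vanishingIdeal C
  exact ⟨_, j, inferInstance, isIntegral_of_irreducibleSpace_of_isReduced _, hr⟩

/-- No point of the set is maximal. -/
def NoMax {T : Type*} [TopologicalSpace T] (S : Set T) : Prop := ∀ s ∈ S, ∃ t, t ⤳ s ∧ t ≠ s

theorem exists_maximal_specializes {T : Scheme.{u}} (x : T) : ∃ η : T, η ⤳ x ∧ ∀ z, z ⤳ η → z = η := by
  obtain ⟨s, hsc, hxs, hmax⟩ := exists_preirreducible ({x} : Set T) isPreirreducible_singleton
  have hxs' : x ∈ s := hxs rfl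
  have hirr : IsIrreducible (closure s) := ⟨⟨x, subset_closure hxs'⟩, hsc.closure⟩
  obtain ⟨η, hη⟩ := QuasiSober.sober hirr isClosed_closure
  refine ⟨η, hη.specializes (subset_closure hxs'), fun z hz => ?_⟩
  have h1 : closure s ⊆ closure {z} := by
    rw [← hη.def]
    exact closure_minimal (Set.singleton_subset_iff.2 hz.mem_closure) isClosed_closure
  have h2 : closure {z} = s := hmax _ isIrreducible_singleton.closure.2 (subset_closure.trans h1)
  have h3 : IsGenericPoint z (closure s) := by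
    rw [← h2, closure_closure]
    exact isGenericPoint_closure
  exact h3.eq hη

variable {X : Scheme.{u}} (φ : ∀ (Y : Scheme.{u}), (Y ⟶ X) → ℕ)

/-- The function is below `n` on all integral closed subschemes. -/
def Bd (T : Scheme.{u}) (g : T ⟶ X) (n : ℕ) : Prop :=
  ∀ (Z : Scheme.{u}) (c : Z ⟶ T) [IsIntegral Z] [IsClosedImmersion c], φ Z (c ≫ g) < n

/-- The monotonicity of the function. -/
def MonoFun : Prop :=
  ∀ (Y₁ Y₂ : Scheme.{u}) (g₁ : Y₁ ⟶ X) (g₂ : Y₂ ⟶ X) [IsIntegral Y₁] [IsIntegral Y₂] [IsFinite g₁] [IsFinite g₂]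
    (m : Y₁ ⟶ Y₂), m ≫ g₂ = g₁ → φ Y₁ g₁ ≤ φ Y₂ g₂ ∧ (IsClosedImmersion m → ¬ IsIso m → φ Y₁ g₁ < φ Y₂ g₂)

variable {φ}

theorem Bd.comp (hm : MonoFun φ) {T T' : Scheme.{u}} (g : T ⟶ X) [IsFinite g] (h : T' ⟶ T) [IsFinite h]
    {n : ℕ} (hb : Bd φ T g n) : Bd φ T' (h ≫ g) n := by
  intro W c _ _
  obtain ⟨Z, d, hd, hZ, hr⟩ := exists_integral_closureOf ((c ≫ h).base (genericPoint W))
  obtain ⟨m, hm'⟩ := GrothLib.RedSub.exists_lift (c ≫ h) d (by
    rintro _ ⟨w, rfl⟩
    rw [hr]
    exact ((genericPoint_specializes w).map (c ≫ h).continuous).mem_closure)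
  exact lt_of_le_of_lt (hm W Z (c ≫ h ≫ g) (d ≫ g) m
    (by rw [← Category.assoc, hm', Category.assoc])).1 (hb Z d)

theorem Bd.drop (hm : MonoFun φ) {T B : Scheme.{u}} (g : T ⟶ X) [IsFinite g] (i : B ⟶ T) [IsClosedImmersion i]
    (hi : NoMax (Set.range i.base)) {n : ℕ} (hb : Bd φ T g (n + 1)) : Bd φ B (i ≫ g) n := by
  intro W c _ _
  obtain ⟨t, ht, hne⟩ := hi _ ⟨c.base (genericPoint W), rfl⟩
  obtain ⟨Z, d, hd, hZ, hr⟩ := exists_integral_closureOf t
  obtain ⟨m, hm'⟩ := GrothLib.RedSub.exists_lift (c ≫ i) d (by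
    rintro _ ⟨w, rfl⟩
    rw [hr]
    refine (ht.trans ?_).mem_closure
    exact ((genericPoint_specializes w).map (c ≫ i).continuous))
  haveI : IsClosedImmersion (m ≫ d) := by rw [hm']; infer_instance
  haveI : IsClosedImmersion m := IsClosedImmersion.of_comp m d
  have hni : ¬ IsIso m := fun h => by
    obtain ⟨z, hz⟩ : t ∈ Set.range d.base := hr ▸ subset_closure rfl
    obtain ⟨w, rfl⟩ := m.surjective z
    have he : (c ≫ i).base w = t := by rw [← hm', Scheme.Hom.comp_apply]; exact hz
    have hsp : i.base (c.base (genericPoint W)) ⤳ t :=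
      he ▸ (genericPoint_specializes w).map (c ≫ i).continuous
    exact hne (ht.antisymm hsp).eq
  have := (hm W Z (c ≫ i ≫ g) (d ≫ g) m (by rw [← Category.assoc, hm', Category.assoc])).2 inferInstance hni
  have := hb Z d
  omega

section Supported

variable {T B : Scheme.{u}} (i : B ⟶ T) [IsClosedImmersion i] (Q : EtCoh.Ab T)

theorem isIso_stalk_unit {Ω : Type u} [Field Ω] [IsSepClosed Ω] (ξ : Spec (CommRingCat.of Ω) ⟶ T)
    (hξ : ξ.base (default : Spec (CommRingCat.of Ω)) ∈ Set.range i.base) :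
    IsIso ((EtCoh.stalk ξ).map ((EtCoh.pullPushAdj i).unit.app Q)) := by
  obtain ⟨x, hx⟩ := hξ
  obtain ⟨ζ, rfl, -⟩ := GrothLib.Constructible.exists_point_lift i ξ x hx
  set u₁ := (EtCoh.pullPushAdj i).unit.app Q
  haveI := GrothLib.EtSite.isIso_counit i ((EtCoh.pull i).obj Q)
  have e := (EtCoh.pullPushAdj i).left_triangle_components Q
  haveI : IsIso ((EtCoh.pull i).map u₁ ≫ (EtCoh.pullPushAdj i).counit.app ((EtCoh.pull i).obj Q)) :=
    ⟨𝟙 _, by rw [Category.comp_id]; exact e, by rw [Category.id_comp]; exact e⟩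
  haveI : IsIso ((EtCoh.pull i).map u₁) :=
    IsIso.of_isIso_comp_right _ ((EtCoh.pullPushAdj i).counit.app ((EtCoh.pull i).obj Q))
  exact (NatIso.isIso_map_iff (pullStalkIso ζ i) u₁).1 (by
    change IsIso ((EtCoh.stalk ζ).map ((EtCoh.pull i).map u₁))
    infer_instance)

/-- Cohomology of a sheaf supported in a closed subscheme. -/
theorem subsingleton_H_supported (h : SuppIn Q (Set.range i.base)) (q : ℕ)
    (hB : Subsingleton (EtCoh.H B ((EtCoh.pull i).obj Q) q)) : Subsingleton (EtCoh.H T Q q) := by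
  haveI : IsIso ((EtCoh.pullPushAdj i).unit.app Q) := GrothLib.EtSite.isIso_of_stalks _ fun Ω _ _ ξ => by
    rw [← ConcreteCategory.isIso_iff_bijective]
    by_cases hξ : ξ.base (default : Spec (CommRingCat.of Ω)) ∈ Set.range i.base
    · exact isIso_stalk_unit i Q ξ hξ
    · exact isIso_of_source_target_iso_zero _ (IsZero.isoZero (h Ω ξ hξ))
        (IsZero.isoZero (GrothLib.EtSite.stalk_push_isZero i _ ξ hξ))
  exact subsingleton_H_of_iso (asIso ((EtCoh.pullPushAdj i).unit.app Q)).symm q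
    (GrothLib.EtDer.subsingleton_H_push i _ q hB)

end Supported

variable (φ) in
/-- The vanishing on all schemes with bound `n`. -/
def VanAll (ℓ n : ℕ) : Prop :=
  ∀ (T : Scheme.{u}) (g : T ⟶ X) [IsFinite g], Bd φ T g n → ∀ q, n ≤ q → ∀ G : EtCoh.Ab T, ℓ • 𝟙 G = 0 →
    Subsingleton (EtCoh.H T G q)

variable (ℓ : ℕ) [Fact ℓ.Prime]

variable (hm : MonoFun φ)
  (h2 : ∀ (Y : Scheme.{u}) (g : Y ⟶ X) [IsIntegral Y] [IsFinite g] (q : ℕ), φ Y g < q →
    Subsingleton (EtCoh.H Y (EtCoh.const Y (ZMod ℓ)) q))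
  {n : ℕ} (hn : VanAll φ ℓ n)

include hm hn in
/-- Sheaves supported away from the maximal points. -/
theorem subsingleton_H_noMax {T : Scheme.{u}} (g : T ⟶ X) [IsFinite g] (hb : Bd φ T g (n + 1))
    (S : TopologicalSpace.Closeds T) (hS : NoMax (S : Set T)) (Q : EtCoh.Ab T) (hQ : ℓ • 𝟙 Q = 0)
    (hs : SuppIn Q (S : Set T)) (q : ℕ) (hq : n ≤ q) : Subsingleton (EtCoh.H T Q q) := by
  let i := (Scheme.IdealSheafData.vanishingIdeal S).subschemeι
  have hr : Set.range i.base = (S : Set T) := GrothLib.RedSub.range_subschemeι_vanishingIdeal S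
  haveI : (EtCoh.pull i).Additive := (EtCoh.pullPushAdj i).left_adjoint_additive
  refine subsingleton_H_supported i Q (hr ▸ hs) q ?_
  exact hn _ (i ≫ g) (Bd.drop hm g i (hr ▸ hS) hb) q hq _ (killed_map (EtCoh.pull i) hQ)

variable [AlgebraicGeometry.IsNoetherian X]

include hm h2 hn in
set_option maxHeartbeats 1000000 in
/-- Constant coefficients. -/
theorem subsingleton_H_const_bd (T : Scheme.{u}) (g : T ⟶ X) [IsFinite g] (hb : Bd φ T g (n + 1)) (q : ℕ)
    (hq : n + 1 ≤ q) : Subsingleton (EtCoh.H T (EtCoh.const T (ZMod ℓ)) q) := by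
  haveI : AlgebraicGeometry.IsNoetherian T := by
    haveI : IsLocallyNoetherian T := LocallyOfFiniteType.isLocallyNoetherian g
    haveI : CompactSpace T := QuasiCompact.compactSpace_of_compactSpace g
    exact {}
  suffices key : ∀ S : TopologicalSpace.Closeds T, ∀ (B : Scheme.{u}) (i : B ⟶ T) [IsClosedImmersion i],
      Set.range i.base ⊆ (S : Set T) → Subsingleton (EtCoh.H B (EtCoh.const B (ZMod ℓ)) q) from
    key ⊤ T (𝟙 T) fun _ _ => trivial
  intro S
  induction S using WellFoundedLT.induction with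
  | ind S IH =>
  intro B i _ hBS
  have hbB : Bd φ B (i ≫ g) (n + 1) := Bd.comp hm g i hb
  rcases isEmpty_or_nonempty B with hB | ⟨⟨b₀⟩⟩
  · exact subsingleton_H_of_isZero (GrothLib.QDim18.isZero_of_isEmpty _) q
  obtain ⟨η, -, hηmax⟩ := exists_maximal_specializes b₀
  obtain ⟨Z, c, hc, hZ, hr⟩ := exists_integral_closureOf η
  have hcz : Subsingleton (EtCoh.H Z (EtCoh.const Z (ZMod ℓ)) q) :=
    h2 Z (c ≫ i ≫ g) q (lt_of_lt_of_le (hbB Z c) hq)
  have hc' : Subsingleton (EtCoh.H Z ((EtCoh.pull c).obj (EtCoh.const B (ZMod ℓ))) q) :=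
    subsingleton_H_of_iso (EtCore.pullConst c (ZMod ℓ)).symm q hcz
  by_cases huniv : closure {η} = (Set.univ : Set B)
  · refine subsingleton_H_supported c _ (fun Ω _ _ ξ hξ => absurd ?_ hξ) q hc'
    rw [hr, huniv]; trivial
  haveI : AlgebraicGeometry.IsNoetherian B := by
    haveI : IsLocallyNoetherian B := LocallyOfFiniteType.isLocallyNoetherian i
    haveI : CompactSpace B := QuasiCompact.compactSpace_of_compactSpace i
    exact {}
  let C₂ : TopologicalSpace.Closeds B := ⟨closure (closure {η})ᶜ, isClosed_closure⟩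
  have hη₂ : η ∉ (C₂ : Set B) := fun h => by
    obtain ⟨y, hy, hyη⟩ := GrothLib.ConstrCpt.exists_specializes
      ((TopologicalSpace.NoetherianSpace.isCompact _).isRetrocompact isClosed_closure.isOpen_compl
        |>.isConstructible isClosed_closure.isOpen_compl) h
    exact hy (hηmax y hyη ▸ subset_closure rfl)
  let d := (Scheme.IdealSheafData.vanishingIdeal C₂).subschemeι
  have hrd : Set.range d.base = (C₂ : Set B) := GrothLib.RedSub.range_subschemeι_vanishingIdeal C₂
  have hdz : Subsingleton (EtCoh.H _ (EtCoh.const (Scheme.IdealSheafData.vanishingIdeal C₂).subscheme (ZMod ℓ)) q) := by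
    refine IH ⟨i.base '' (C₂ : Set B), i.isClosedEmbedding.isClosedMap _ C₂.isClosed⟩ ?_ _ (d ≫ i) ?_
    · refine lt_of_le_of_ne (fun x hx => ?_) fun he => hη₂ ?_
      · obtain ⟨b, -, rfl⟩ := hx
        exact hBS ⟨b, rfl⟩
      · obtain ⟨b, hb', hbe⟩ := (congrArg (fun A : TopologicalSpace.Closeds T => (A : Set T)) he).ge (hBS ⟨η, rfl⟩)
        exact i.isClosedEmbedding.injective hbe ▸ hb'
    · rintro _ ⟨z, rfl⟩
      exact ⟨d.base z, hrd ▸ ⟨z, rfl⟩, (Scheme.Hom.comp_apply d i z).symm⟩
  have hd' : Subsingleton (EtCoh.H _ ((EtCoh.pull d).obj (EtCoh.const B (ZMod ℓ))) q) :=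
    subsingleton_H_of_iso (EtCore.pullConst d (ZMod ℓ)).symm q hdz
  let C := EtCoh.const B (ZMod ℓ)
  let u₁ := (EtCoh.pullPushAdj c).unit.app C
  let u₂ := (EtCoh.pullPushAdj d).unit.app C
  suffices h : ∀ x : EtCoh.H B C q, x = 0 from ⟨fun a b => (h a).trans (h b).symm⟩
  intro x
  let K := ShortComplex.mk (kernel.ι u₁) (cokernel.π (kernel.ι u₁)) (cokernel.condition _)
  have hK : K.ShortExact := { exact := K.exact_of_g_is_cokernel (cokernelIsCokernel _) }
  let b₁ : K.X₃ ⟶ (EtCoh.push c).obj ((EtCoh.pull c).obj C) := Abelian.factorThruCoimage u₁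
  haveI : Mono b₁ := inferInstanceAs (Mono (Abelian.factorThruCoimage _))
  let v : K.X₁ ⟶ (EtCoh.push d).obj ((EtCoh.pull d).obj C) := kernel.ι u₁ ≫ u₂
  have hKout : SuppIn K.X₁ (closure {η})ᶜ := by
    intro Ω _ _ ξ hξ
    haveI := GrothLib.EtSite.additive_stalk ξ
    haveI := GrothLib.EtSite.preservesFiniteLimits_stalk ξ
    haveI := isIso_stalk_unit c C ξ (by rw [hr]; exact not_not.1 hξ)
    haveI : Mono ((EtCoh.stalk ξ).map (kernel.ι u₁)) := inferInstance
    refine IsZero.of_mono_eq_zero ((EtCoh.stalk ξ).map (kernel.ι u₁)) ?_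
    rw [← cancel_mono ((EtCoh.stalk ξ).map u₁), ← Functor.map_comp, zero_comp, kernel.condition, Functor.map_zero]
  have hιiso : ∀ (Ω : Type u) [Field Ω] [IsSepClosed Ω] (ξ : Spec (CommRingCat.of Ω) ⟶ B),
      ξ.base (default : Spec (CommRingCat.of Ω)) ∉ closure {η} → IsIso ((EtCoh.stalk ξ).map (kernel.ι u₁)) := by
    intro Ω _ _ ξ hξ
    haveI := GrothLib.EtSite.additive_stalk ξ
    haveI := GrothLib.EtSite.preservesFiniteLimits_stalk ξ
    have hz : IsZero ((EtCoh.stalk ξ).obj ((EtCoh.push c).obj ((EtCoh.pull c).obj C))) :=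
      GrothLib.EtSite.stalk_push_isZero c _ ξ (by rw [hr]; exact hξ)
    haveI := GrothLib.EtSite.preservesFiniteColimits_stalk ξ
    let K₀ := ShortComplex.mk (kernel.ι u₁) u₁ (kernel.condition u₁)
    have hK₀ : K₀.Exact := K₀.exact_of_f_is_kernel (kernelIsKernel u₁)
    haveI : Epi ((EtCoh.stalk ξ).map (kernel.ι u₁)) := (hK₀.map (EtCoh.stalk ξ)).epi_f (hz.eq_of_tgt _ _)
    haveI : Mono ((EtCoh.stalk ξ).map (kernel.ι u₁)) := inferInstance
    exact isIso_of_mono_of_epi _
  haveI : Mono v := Preadditive.mono_of_kernel_zero (IsZero.eq_of_src ((IsZero.iff_id_eq_zero _).2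
    (GrothLib.ExtZero.zero_of_stalks _ fun Ω _ _ ξ => by
      haveI := GrothLib.EtSite.additive_stalk ξ
      haveI := GrothLib.EtSite.preservesFiniteLimits_stalk ξ
      have hz : IsZero ((EtCoh.stalk ξ).obj (kernel v)) := by
        haveI : Mono ((EtCoh.stalk ξ).map (kernel.ι v)) := inferInstance
        by_cases hξ : ξ.base (default : Spec (CommRingCat.of Ω)) ∈ closure {η}
        · exact IsZero.of_mono ((EtCoh.stalk ξ).map (kernel.ι v)) (hKout Ω ξ fun h => h hξ)
        · haveI := hιiso Ω ξ hξ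
          haveI := isIso_stalk_unit d C ξ (by rw [hrd]; exact subset_closure hξ)
          haveI : IsIso ((EtCoh.stalk ξ).map v) := by rw [Functor.map_comp]; infer_instance
          refine IsZero.of_mono_eq_zero ((EtCoh.stalk ξ).map (kernel.ι v)) ?_
          rw [← cancel_mono ((EtCoh.stalk ξ).map v), ← Functor.map_comp, zero_comp, kernel.condition, Functor.map_zero]
      exact hz.eq_of_src _ _)) _ _)
  let L := ShortComplex.mk v (cokernel.π v) (cokernel.condition v)
  have hL : L.ShortExact := { exact := L.exact_of_g_is_cokernel (cokernelIsCokernel _) }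
  haveI : (EtCoh.pull d).Additive := (EtCoh.pullPushAdj d).left_adjoint_additive
  haveI : PreservesFiniteLimits (EtCoh.push d) :=
    ((EtCoh.pullPushAdj d).rightAdjoint_preservesLimits : PreservesLimitsOfSize.{0, 0} _).preservesFiniteLimits
  haveI : (EtCoh.push d).Additive := Functor.additive_of_preserves_binary_products _
  obtain ⟨r, rfl⟩ : ∃ r, q = r + 1 := ⟨q - 1, by omega⟩
  have hcok : Subsingleton (EtCoh.H B L.X₃ r) := by
    refine subsingleton_H_noMax ℓ hm hn (i ≫ g) hbB
      ⟨closure {η} ∩ (C₂ : Set B), isClosed_closure.inter C₂.isClosed⟩ ?_ _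
      (killed_quot (cokernel.π v) (killed_map (EtCoh.push d) (killed_map (EtCoh.pull d) (GrothLib.GalCd.killed_const (X := B) ℓ)))) ?_ r (by omega)
    · rintro z ⟨hz1, hz2⟩
      refine ⟨η, specializes_iff_mem_closure.2 hz1, ?_⟩
      rintro rfl
      exact hη₂ hz2
    · intro Ω _ _ ξ hξ
      haveI := GrothLib.EtSite.additive_stalk ξ
      haveI := GrothLib.EtSite.preservesFiniteColimits_stalk ξ
      haveI : Epi ((EtCoh.stalk ξ).map (cokernel.π v)) := inferInstance
      by_cases h2' : ξ.base (default : Spec (CommRingCat.of Ω)) ∈ (C₂ : Set B)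
      · have hξ1 : ξ.base (default : Spec (CommRingCat.of Ω)) ∉ closure {η} := fun h => hξ ⟨h, h2'⟩
        haveI := hιiso Ω ξ hξ1
        haveI := isIso_stalk_unit d C ξ (by rw [hrd]; exact h2')
        haveI : IsIso ((EtCoh.stalk ξ).map v) := by rw [Functor.map_comp]; infer_instance
        haveI : Epi ((EtCoh.stalk ξ).map v) := IsIso.epi_of_iso _
        exact IsZero.of_iso (isZero_cokernel_of_epi _) (PreservesCokernel.iso (EtCoh.stalk ξ) v)
      · exact IsZero.of_epi ((EtCoh.stalk ξ).map (cokernel.π v))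
          (GrothLib.EtSite.stalk_push_isZero d _ ξ (by rw [hrd]; exact h2'))
  have hK1 : Subsingleton (EtCoh.H B K.X₁ (r + 1)) :=
    subsingleton_H_X₁ hL r (GrothLib.EtDer.subsingleton_H_push d _ _ hd') hcok
  have hK3 : Subsingleton (EtCoh.H B K.X₃ (r + 1)) := by
    let M := ShortComplex.mk b₁ (cokernel.π b₁) (cokernel.condition b₁)
    have hM : M.ShortExact := { exact := M.exact_of_g_is_cokernel (cokernelIsCokernel _) }
    refine subsingleton_H_X₁ hM r (GrothLib.EtDer.subsingleton_H_push c _ _ hc') ?_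
    have hz : IsZero M.X₃ := (IsZero.iff_id_eq_zero _).2 (GrothLib.ExtZero.zero_of_stalks _ fun Ω _ _ ξ => by
      haveI := GrothLib.EtSite.additive_stalk ξ
      haveI := GrothLib.EtSite.preservesFiniteColimits_stalk ξ
      haveI : Epi ((EtCoh.stalk ξ).map (cokernel.π b₁)) := inferInstance
      have hz : IsZero ((EtCoh.stalk ξ).obj M.X₃) := by
        by_cases hξ : ξ.base (default : Spec (CommRingCat.of Ω)) ∈ Set.range c.base
        · haveI := isIso_stalk_unit c C ξ hξ
          haveI : Epi ((EtCoh.stalk ξ).map b₁) := by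
            haveI : Epi ((EtCoh.stalk ξ).map K.g ≫ (EtCoh.stalk ξ).map b₁) := by
              rw [← Functor.map_comp, show K.g ≫ b₁ = u₁ from Abelian.coimage.fac _]
              infer_instance
            exact epi_of_epi ((EtCoh.stalk ξ).map K.g) _
          exact IsZero.of_iso (isZero_cokernel_of_epi _) (PreservesCokernel.iso (EtCoh.stalk ξ) b₁)
        · exact IsZero.of_epi ((EtCoh.stalk ξ).map (cokernel.π b₁))
            (GrothLib.EtSite.stalk_push_isZero c _ ξ hξ)
      exact hz.eq_of_src _ _)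
    exact subsingleton_H_of_isZero hz r
  exact @Subsingleton.elim _ (subsingleton_H_X₂ hK (r + 1) hK1 hK3) x 0

include hm h2 hn in
set_option maxHeartbeats 1000000 in
/-- The key vanishing. -/
theorem key_bd (T : Scheme.{u}) (g : T ⟶ X) [IsFinite g] (hb : Bd φ T g (n + 1)) (q : ℕ) (hq : n + 1 ≤ q) :
    Key ℓ T q := by
  intro U S j _ _ _ a _
  haveI : AlgebraicGeometry.IsNoetherian T := by
    haveI : IsLocallyNoetherian T := LocallyOfFiniteType.isLocallyNoetherian g
    haveI : CompactSpace T := QuasiCompact.compactSpace_of_compactSpace g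
    exact {}
  haveI : QuasiCompact j := inferInstance
  haveI : QuasiCompact (a ≫ j) := inferInstance
  haveI : LocallyQuasiFinite (a ≫ j) := inferInstance
  haveI : LocallyOfFiniteType (a ≫ j) := inferInstance
  haveI : IsSeparated (a ≫ j) := inferInstance
  haveI : CompactSpace S := QuasiCompact.compactSpace_of_compactSpace (a ≫ j)
  obtain ⟨T', t, h, ht, htc, htd, hh, hth⟩ := GrothLib.FinEnv6.exists_finite_envelope (a ≫ j)
  have hdense : DenseRange t.base := t.denseRange
  haveI : EtShriek.JCont t := GrothLib.Constructible.jcont t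
  have hpre : h ⁻¹ᵁ j.opensRange = t.opensRange := preimage_opensRange_eq j a h t hth hdense
  obtain ⟨e⟩ := GrothLib.ExtZero.nonempty_push_extZero h j t a
    (IsOpenImmersion.isPullback a t j h hth hpre).flip (EtCoh.const S (ZMod ℓ))
  refine subsingleton_H_of_iso e q (GrothLib.EtDer.subsingleton_H_push h _ q ?_)
  have hb' : Bd φ T' (h ≫ g) (n + 1) := Bd.comp hm g h hb
  haveI : AlgebraicGeometry.IsNoetherian T' := by
    haveI : IsLocallyNoetherian T' := LocallyOfFiniteType.isLocallyNoetherian (h ≫ g)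
    haveI : CompactSpace T' := QuasiCompact.compactSpace_of_compactSpace (h ≫ g)
    exact {}
  let Zc : TopologicalSpace.Closeds T' :=
    ⟨(Set.range t.base)ᶜ, t.isOpenEmbedding.isOpen_range.isClosed_compl⟩
  let i := (Scheme.IdealSheafData.vanishingIdeal Zc).subschemeι
  have hr : Set.range i.base = (Set.range t.base)ᶜ := GrothLib.RedSub.range_subschemeι_vanishingIdeal Zc
  obtain ⟨w, hS⟩ := GrothLib.ExtZero.shortExact_localization i t (by rw [hr, compl_compl])
    (EtCoh.const T' (ZMod ℓ))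
  obtain ⟨r, rfl⟩ : ∃ r, q = r + 1 := ⟨q - 1, by omega⟩
  refine subsingleton_H_of_iso ((EtShriek.extZero t).mapIso
    ((GrothLib.ExtZero.restrIsoPull t).app _ ≪≫ EtCore.pullConst t (ZMod ℓ))) _
    (subsingleton_H_X₁ hS r (subsingleton_H_const_bd ℓ hm h2 hn T' (h ≫ g) hb' _ hq) ?_)
  refine GrothLib.EtDer.subsingleton_H_push i _ r ?_
  haveI : (EtCoh.pull i).Additive := (EtCoh.pullPushAdj i).left_adjoint_additive
  refine hn _ (i ≫ h ≫ g) (Bd.drop hm (h ≫ g) i (fun x hx => ?_) hb') r (by omega) _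
    (killed_map (EtCoh.pull i) (GrothLib.GalCd.killed_const (X := T') ℓ))
  have hx' : x ∉ Set.range t.base := by rw [hr] at hx; exact hx
  obtain ⟨y, hy, hyx⟩ := GrothLib.ConstrCpt.exists_specializes
    ((isCompact_range t.continuous).isRetrocompact t.isOpenEmbedding.isOpen_range |>.isConstructible
      t.isOpenEmbedding.isOpen_range) (x := x) (hdense x)
  exact ⟨y, hyx, fun h => hx' (h ▸ hy)⟩

include hm h2 in
omit hn in
/-- The bound in all degrees. -/
theorem vanAll : ∀ n, VanAll φ ℓ n := by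
  intro n
  induction n with
  | zero =>
    intro T g _ hb q _ G _
    haveI : IsEmpty T := ⟨fun t => by
      obtain ⟨Z, c, hc, hZ, -⟩ := exists_integral_closureOf t
      exact Nat.not_lt_zero _ (hb Z c)⟩
    exact subsingleton_H_of_isZero (GrothLib.QDim18.isZero_of_isEmpty G) q
  | succ n ih =>
    intro T g _ hb q hq G hG
    haveI : AlgebraicGeometry.IsNoetherian T := by
      haveI : IsLocallyNoetherian T := LocallyOfFiniteType.isLocallyNoetherian g
      haveI : CompactSpace T := QuasiCompact.compactSpace_of_compactSpace g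
      exact {}
    exact ⟨fun x y => (CdP18.H_eq_zero_of_killed ℓ q (key_bd ℓ hm h2 ih T g hb q hq) G hG x).trans
      (CdP18.H_eq_zero_of_killed ℓ q (key_bd ℓ hm h2 ih T g hb q hq) G hG y).symm⟩

include hm h2 in
omit hn in
set_option maxHeartbeats 1000000 in
/-- Vanishing above the function on the support. -/
theorem H_eq_zero_dimensionFunction (Y : Scheme.{u}) (g : Y ⟶ X) [IsFinite g] (F : EtCoh.Ab Y)
    (hF : Dix.IsPrimaryTorsion ℓ F) (q : ℕ)
    (hq : ∀ (Z : Scheme.{u}) (c : Z ⟶ Y) [IsIntegral Z] [IsClosedImmersion c],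
      Set.range c.base ⊆ closure (EtPBC.supp F) → φ Z (c ≫ g) < q) :
    Subsingleton (EtCoh.H Y F q) := by
  haveI : AlgebraicGeometry.IsNoetherian Y := by
    haveI : IsLocallyNoetherian Y := LocallyOfFiniteType.isLocallyNoetherian g
    haveI : CompactSpace Y := QuasiCompact.compactSpace_of_compactSpace g
    exact {}
  suffices h : ∀ x : EtCoh.H Y F q, x = 0 from ⟨fun a b => (h a).trans (h b).symm⟩
  refine H_eq_zero_of_primary ℓ (E := closure (EtPBC.supp F)) (fun G hG hs y => ?_) F hF
    (suppIn_of_supp_subset subset_closure)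
  let S : TopologicalSpace.Closeds Y := ⟨closure (EtPBC.supp F), isClosed_closure⟩
  let i := (Scheme.IdealSheafData.vanishingIdeal S).subschemeι
  have hr : Set.range i.base = closure (EtPBC.supp F) := GrothLib.RedSub.range_subschemeι_vanishingIdeal S
  haveI : (EtCoh.pull i).Additive := (EtCoh.pullPushAdj i).left_adjoint_additive
  have hb : Bd φ _ (i ≫ g) q := fun Z c _ _ => by
    rw [← Category.assoc]
    exact hq Z (c ≫ i) (by rw [← hr]; rintro _ ⟨z, rfl⟩; exact ⟨c.base z, (Scheme.Hom.comp_apply c i z).symm⟩)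
  exact @Subsingleton.elim _ (subsingleton_H_supported i G (hr ▸ hs) q
    (vanAll ℓ hm h2 q _ (i ≫ g) hb q le_rfl _ (killed_map (EtCoh.pull i) hG))) y 0

end GrothLib.DimFun18
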