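import Groth.Agent.Lib.DimFun18.Primary
import Groth.Agent.Lib.CycDiv.Stalk
import Mathlib.RingTheory.Ideal.GoingDown
import Mathlib.RingTheory.Ideal.KrullsHeightTheorem
import Mathlib.Order.KrullDimension

/-!
# Cohomological bounds by codimension
-/

set_option autoImplicit false
set_option backward.isDefEq.respectTransparency false
set_option backward.isDefEq.respectTransparency.types false
set_option linter.style.haveILetI false
set_option linter.all false

universe u

open CategoryTheory CategoryTheory.Limits AlgebraicGeometry IsLocalRing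

noncomputable section

namespace GrothLib.DimFun18

theorem exists_ringKrullDim_eq (A : Type u) [CommRing A] [IsLocalRing A] [IsNoetherianRing A] :
    ∃ c : ℕ, ringKrullDim A = c := by
  rw [← maximalIdeal_height_eq_ringKrullDim]
  obtain ⟨c, hc⟩ := ENat.ne_top_iff_exists.1 (Ideal.height_ne_top (I := maximalIdeal A) (maximalIdeal.isMaximal A).ne_top)
  exact ⟨c, by rw [← hc]; rfl⟩

/-- Dimension of a fibre of a flat local homomorphism over a prime. -/
theorem dim_quotient_map_add_height_le (A R : Type u) [CommRing A] [IsNoetherianRing A] [CommRing R] [IsNoetherianRing R] [Algebra A R]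
    [Module.Flat A R] (p : Ideal A) [p.IsPrime] {e : ℕ} (he : ringKrullDim (R ⧸ p.map (algebraMap A R)) = e) :
    (p.height : WithBot ℕ∞) + (e : ℕ∞) ≤ ringKrullDim R := by
  obtain ⟨l, hl⟩ := Order.le_krullDim_iff.1 (show (e : WithBot ℕ∞) ≤ Order.krullDim (PrimeSpectrum (R ⧸ p.map (algebraMap A R))) from he.ge)
  let g : PrimeSpectrum (R ⧸ p.map (algebraMap A R)) → PrimeSpectrum R := PrimeSpectrum.comap (Ideal.Quotient.mk _)
  have hg : StrictMono g := fun a b hab => by
    refine lt_of_le_of_ne (Ideal.comap_mono hab.le) fun h => hab.ne ?_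
    exact PrimeSpectrum.ext (Ideal.comap_injective_of_surjective _ Ideal.Quotient.mk_surjective
      (congrArg PrimeSpectrum.asIdeal h))
  let l' := l.map g hg
  let Q := l'.head
  haveI : Q.asIdeal.IsPrime := Q.2
  have hpQ : p ≤ Q.asIdeal.comap (algebraMap A R) := by
    refine Ideal.map_le_iff_le_comap.1 fun r hr => ?_
    change Ideal.Quotient.mk _ r ∈ (l.head).asIdeal
    rw [Ideal.Quotient.eq_zero_iff_mem.2 hr]
    exact Ideal.zero_mem _
  have h1 : p.height ≤ Q.asIdeal.height := by
    haveI : Q.asIdeal.LiesOver (Q.asIdeal.comap (algebraMap A R)) := ⟨rfl⟩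
    rw [Ideal.height_eq_height_add_of_liesOver_of_hasGoingDown (Q.asIdeal.comap (algebraMap A R)) Q.asIdeal]
    exact (Ideal.height_mono hpQ).trans le_self_add
  have h2 : (e : ℕ∞) ≤ Order.coheight Q := by
    have := Order.length_le_coheight_head (p := l')
    rwa [show l'.length = e from hl] at this
  haveI : Nonempty (PrimeSpectrum R) := ⟨Q⟩
  change _ ≤ Order.krullDim (PrimeSpectrum R)
  rw [Order.krullDim_eq_iSup_height_add_coheight_of_nonempty, ← WithBot.coe_add, WithBot.coe_le_coe]
  refine le_trans (add_le_add (h1.trans_eq (PrimeSpectrum.height_eq_orderHeight Q)) h2) ?_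
  exact le_iSup (fun a : PrimeSpectrum R => Order.height a + Order.coheight a) Q

variable (X : Scheme.{u}) [AlgebraicGeometry.IsNoetherian X]

theorem exists_dim_stalk (x : X) : ∃ c : ℕ, ringKrullDim (X.presheaf.stalk x) = c :=
  exists_ringKrullDim_eq (X.presheaf.stalk x : Type u)

/-- The codimension. -/
def cod (x : X) : ℕ := (exists_dim_stalk X x).choose

theorem cod_spec (x : X) : ringKrullDim (X.presheaf.stalk x) = cod X x := (exists_dim_stalk X x).choose_spec

variable {X}

theorem height_ker_specMap {x y : X} (h : x ⤳ y) :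
    (RingHom.ker (Cyc.specMap y x h)).height = (cod X x : ℕ∞) := by
  haveI := GrothLib.CycDiv.isLocalization_stalkSpecializes h
  letI := (X.presheaf.stalkSpecializes h).hom.toAlgebra
  have e := IsLocalization.AtPrime.ringKrullDim_eq_height (GrothLib.CycDiv.primeOf h) (X.presheaf.stalk x)
  rw [cod_spec] at e
  have hp : GrothLib.CycDiv.primeOf h = RingHom.ker (Cyc.specMap y x h) := rfl
  rw [← hp]
  exact_mod_cast e.symm

theorem cod_lt {x y : X} (h : x ⤳ y) (hne : x ≠ y) : cod X x < cod X y := by
  have e1 := ringKrullDim_stalk_eq_coheight x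
  have e2 := ringKrullDim_stalk_eq_coheight y
  rw [cod_spec] at e1 e2
  have e1' : Order.coheight x = (cod X x : ℕ∞) := by exact_mod_cast e1.symm
  have e2' : Order.coheight y = (cod X y : ℕ∞) := by exact_mod_cast e2.symm
  have hlt : y < x := lt_iff_le_not_ge.2 ⟨h, fun h' => hne (Specializes.antisymm h h').eq⟩
  have h3 : Order.coheight x < Order.coheight y :=
    Order.coheight_strictAnti hlt (by rw [e1']; exact ENat.coe_lt_top _)
  rw [e1', e2'] at h3
  exact_mod_cast h3

/-- The bound by codimension. -/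
theorem subsingleton_H_codim (X : Scheme.{u}) [AlgebraicGeometry.IsNoetherian X] (ℓ : ℕ) (hℓ : ℓ.Prime) (n : ℕ)
    (h1 : ∀ (y : X) (c : ℕ), ringKrullDim (X.presheaf.stalk y) = c →
      2 * c ≤ n ∧ Dix.CohDimLEAt (Spec (X.residueField y)) ℓ (n - 2 * c))
    (h2 : ∀ (x y : X) (hxy : x ⤳ y), ∀ (R : Type u) [CommRing R] [IsLocalRing R] [Algebra (X.presheaf.stalk y) R]
      [IsLocalHom (algebraMap (X.presheaf.stalk y) R)] [Hensel.IsStrictHenselization (X.presheaf.stalk y) R],
      ∀ P ∈ ((RingHom.ker (Cyc.specMap y x hxy)).map (algebraMap (X.presheaf.stalk y) R)).minimalPrimes,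
        ∀ e : ℕ, ringKrullDim (R ⧸ (RingHom.ker (Cyc.specMap y x hxy)).map (algebraMap (X.presheaf.stalk y) R)) = e →
          Dix.CohDimLEAt (Spec (CommRingCat.of (FractionRing (R ⧸ P)))) ℓ e)
    (s : ℕ) (F : EtCoh.Ab X) (hF : Dix.IsPrimaryTorsion ℓ F)
    (hs : ∀ y ∈ EtPBC.supp F, (s : WithBot ℕ∞) ≤ ringKrullDim (X.presheaf.stalk y))
    (q : ℕ) (hq : n < q + 2 * s) : Subsingleton (EtCoh.H X F q) := by
  haveI : Fact ℓ.Prime := ⟨hℓ⟩
  refine subsingleton_H_primary ℓ (fun x => n - 2 * cod X x)
    (fun x => killVan_of_cohDimLEAt (h1 x _ (cod_spec X x)).2) (fun x y hxy hne R _ _ _ _ _ P hP => ?_) F hF q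
    (fun x hx => ?_)
  · haveI := GrothLib.Hensel.IsStrictHenselization.flat (R := (X.presheaf.stalk y : Type u)) (S := R)
    haveI : IsNoetherianRing R :=
      (GrothLib.Hensel.IsStrictHenselization.isNoetherianRing_iff (R := (X.presheaf.stalk y : Type u)) (S := R)).1 inferInstance
    let p := RingHom.ker (Cyc.specMap y x hxy)
    haveI : p.IsPrime := RingHom.ker_isPrime _
    have hne' : p.map (algebraMap (X.presheaf.stalk y : Type u) R) ≠ ⊤ := fun h =>
      hP.1.1.ne_top (top_le_iff.1 (h.symm.le.trans hP.1.2))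
    haveI : Nontrivial (R ⧸ p.map (algebraMap (X.presheaf.stalk y : Type u) R)) := Ideal.Quotient.nontrivial_iff.2 hne'
    haveI : IsLocalRing (R ⧸ p.map (algebraMap (X.presheaf.stalk y : Type u) R)) :=
      .of_surjective' (Ideal.Quotient.mk _) Ideal.Quotient.mk_surjective
    obtain ⟨e, he⟩ := exists_ringKrullDim_eq (R ⧸ p.map (algebraMap (X.presheaf.stalk y : Type u) R))
    have hb := dim_quotient_map_add_height_le (X.presheaf.stalk y : Type u) R p he
    rw [height_ker_specMap hxy,
      GrothLib.Hensel.IsStrictHenselization.ringKrullDim_eq (R := (X.presheaf.stalk y : Type u)) (S := R), cod_spec] at hb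
    have hb' : cod X x + e ≤ cod X y := by exact_mod_cast hb
    have hlt := cod_lt hxy hne
    have hy := (h1 y _ (cod_spec X y)).1
    exact ⟨e, by omega, killVan_of_cohDimLEAt (h2 x y hxy R P hP e he)⟩
  · have h3 := hs x hx
    rw [cod_spec] at h3
    have h4 : s ≤ cod X x := by exact_mod_cast h3
    have := (h1 x _ (cod_spec X x)).1
    omega

end GrothLib.DimFun18
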