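import Groth.Agent.Lib.DimFun18.Pts
import Groth.Agent.Lib.HLoc18.Fibre
import Groth.Agent.Lib.HLoc18.Setup
import Groth.Agent.Lib.Hensel.AbsFlat
import Groth.Agent.Lib.Hensel.Branches
import Groth.Agent.Lib.CdBr2.Curve
import Mathlib.RingTheory.EssentialFiniteness
import Mathlib.RingTheory.Ideal.MinimalPrime.Noetherian

/-!
# Stalks of higher direct images from an arbitrary point
-/

set_option autoImplicit false
set_option backward.isDefEq.respectTransparency false
set_option backward.isDefEq.respectTransparency.types false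
set_option linter.style.haveILetI false
set_option linter.all false

universe u

open CategoryTheory CategoryTheory.Limits AlgebraicGeometry IsLocalRing TensorProduct

noncomputable section

namespace GrothLib.DimFun18

/-- Sheaves killed by `N` have no cohomology above degree `d`. -/
def KillVan (Y : Scheme.{u}) (N d : ℕ) : Prop :=
  ∀ G : EtCoh.Ab Y, N • 𝟙 G = 0 → ∀ q, d < q → Subsingleton (EtCoh.H Y G q)

theorem killVan_of_iso {Y Z : Scheme.{u}} (f : Y ⟶ Z) [IsIso f] {N d : ℕ} (h : KillVan Y N d) : KillVan Z N d := by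
  intro F hF q hq
  haveI := GrothLib.EtDer.pullFL f
  haveI : (EtCoh.pull f).Additive := (EtCoh.pullPushAdj _).left_adjoint_additive
  have hvan : ∀ V : Z.Etale, Disjoint (Set.range V.hom.base) (Set.range f.base) →
      Subsingleton (EtCoh.sect F V) := by
    intro V hV
    haveI : IsEmpty V.left := ⟨fun v => Set.disjoint_left.1 hV ⟨v, rfl⟩
      ((f.homeomorph.surjective (V.hom.base v)))⟩
    exact GrothLib.EtSite.subsingleton_sect_of_isEmpty F V
  haveI : IsIso ((EtCoh.pullPushAdj f).unit.app F) := GrothLib.EtSite.isIso_unit_of_vanish f F hvan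
  haveI := h _ (killed_map (EtCoh.pull f) hF) q hq
  refine ⟨fun a b => (GrothLib.EtDer.bijective_comp_mk₀ (asIso ((EtCoh.pullPushAdj f).unit.app F)) q).1 ?_⟩
  exact (Groth.Agent.S14451.result f _ (fun r hr => GrothLib.EtSite.isZero_Rpush_of_integral f _ r hr) q).1
    (Subsingleton.elim _ _)

theorem killVan_of_cohDimLEAt {Y : Scheme.{u}} {ℓ d : ℕ} (h : Dix.CohDimLEAt Y ℓ d) : KillVan Y ℓ d :=
  fun G hG q hq => h G (fun U s w => ⟨U, 𝟙 U, ⟨w, rfl⟩, 1, by
    rw [pow_one]; exact GrothLib.EtTrace21.nsmul_sect hG _⟩) q hq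

theorem killVan_sepClosed (K : Type u) [Field K] [IsSepClosed K] (N d : ℕ) : KillVan (Spec (CommRingCat.of K)) N d := by
  intro G _ q hq
  haveI : IsSepClosed (ResidueField K) :=
    GrothLib.GalCd.isSepClosed_of_ringEquiv (RingEquiv.ofBijective (residue K) ⟨(residue K).injective, residue_surjective⟩)
  exact GrothLib.EtBasicB.subsingleton_H_finite K _ (𝟙 _) G q (by omega)

variable {A R K : Type u} [CommRing A] [CommRing R] [Field K] [Algebra A R] [Algebra A K]

/-- Fractions in a base change to a field of fractions of a quotient. -/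
theorem exists_num (hfrac : ∀ z : K, ∃ a b : A, algebraMap A K b ≠ 0 ∧ z * algebraMap A K b = algebraMap A K a)
    (t : R ⊗[A] K) : ∃ (r : R) (b : A), algebraMap A K b ≠ 0 ∧
      t * algebraMap R (R ⊗[A] K) (algebraMap A R b) = algebraMap R (R ⊗[A] K) r := by
  have hb : ∀ b : A, algebraMap R (R ⊗[A] K) (algebraMap A R b) = (1 : R) ⊗ₜ[A] algebraMap A K b := fun b => by
    rw [← IsScalarTower.algebraMap_apply,
      ← (Algebra.TensorProduct.includeRight : K →ₐ[A] R ⊗[A] K).commutes b]
    rfl
  induction t using TensorProduct.induction_on with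
  | zero => exact ⟨0, 1, by simp, by simp⟩
  | tmul r z =>
    obtain ⟨a, b, hb0, hz⟩ := hfrac z
    refine ⟨r * algebraMap A R a, b, hb0, ?_⟩
    rw [hb, Algebra.TensorProduct.tmul_mul_tmul, mul_one, hz, map_mul, hb,
      show algebraMap R (R ⊗[A] K) r = r ⊗ₜ[A] (1 : K) from rfl, Algebra.TensorProduct.tmul_mul_tmul, mul_one, one_mul]
  | add s t hs ht =>
    obtain ⟨r₁, b₁, h₁, e₁⟩ := hs
    obtain ⟨r₂, b₂, h₂, e₂⟩ := ht
    refine ⟨r₁ * algebraMap A R b₂ + r₂ * algebraMap A R b₁, b₁ * b₂, by rw [map_mul]; exact mul_ne_zero h₁ h₂, ?_⟩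
    simp only [map_mul, map_add, ← e₁, ← e₂]
    ring

variable {X : Scheme.{u}}

/-- The fibre of a strict henselization over a point is finite and reduced, with residue fields the fields
of fractions of the branches, so bounds on these give the vanishing of stalks of higher direct images. -/
theorem isZero_stalk_Rpush (y : X) (R : Type u) [CommRing R] [IsNoetherianRing R] [IsLocalRing R]
    [Algebra (X.presheaf.stalk y : Type u) R] [IsLocalHom (algebraMap (X.presheaf.stalk y : Type u) R)]
    [Hensel.IsStrictHenselization (X.presheaf.stalk y : Type u) R] [IsSepClosed (ResidueField R)]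
    (K : Type u) [Field K] (φ : (X.presheaf.stalk y : Type u) →+* K)
    (hfrac : ∀ z : K, ∃ a b : (X.presheaf.stalk y : Type u), φ b ≠ 0 ∧ z * φ b = φ a)
    (f : Spec (CommRingCat.of K) ⟶ X) [QuasiCompact f] [QuasiSeparated f]
    (hf : Spec.map (CommRingCat.ofHom φ) ≫ X.fromSpecStalk y = f) (N d n : ℕ) (hn : d < n)
    (hd : ∀ P ∈ ((RingHom.ker φ).map (algebraMap (X.presheaf.stalk y : Type u) R)).minimalPrimes,
      KillVan (Spec (CommRingCat.of (FractionRing (R ⧸ P)))) N d)
    (G : EtCoh.Ab (Spec (CommRingCat.of K))) (hG : N • 𝟙 G = 0)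
    {Ω : Type u} [Field Ω] [IsSepClosed Ω] (ξ : Spec (CommRingCat.of Ω) ⟶ X)
    (hξ : ξ.base (default : Spec (CommRingCat.of Ω)) = y) :
    IsZero ((EtCoh.stalk ξ).obj ((EtCoh.Rpush f n).obj G)) := by
  letI := φ.toAlgebra
  let A := (X.presheaf.stalk y : Type u)
  let p : Ideal A := RingHom.ker φ
  let T := R ⊗[A] K
  -- the base change is noetherian and absolutely flat
  haveI : p.IsPrime := RingHom.ker_isPrime φ
  letI : Algebra (A ⧸ p) K := (RingHom.kerLift φ).toAlgebra
  haveI : IsScalarTower A (A ⧸ p) K := IsScalarTower.of_algebraMap_eq fun _ => rfl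
  haveI : FaithfulSMul (A ⧸ p) K := (faithfulSMul_iff_algebraMap_injective _ _).2 (RingHom.kerLift_injective φ)
  haveI : IsFractionRing (A ⧸ p) K := IsFractionRing.of_field _ _ fun z => by
    obtain ⟨a, b, hb, hz⟩ := hfrac z
    exact ⟨Ideal.Quotient.mk p a, Ideal.Quotient.mk p b, by
      change z = φ a / φ b
      rw [eq_div_iff hb]; exact hz⟩
  haveI : Algebra.EssFiniteType (A ⧸ p) K := Algebra.EssFiniteType.of_isLocalization K (nonZeroDivisors (A ⧸ p))
  haveI : Algebra.EssFiniteType A K := Algebra.EssFiniteType.comp A (A ⧸ p) K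
  haveI : IsNoetherianRing T := Algebra.EssFiniteType.isNoetherianRing R T
  have hflat : GrothLib.Hensel.AbsFlat T :=
    (GrothLib.Hensel.IsStrictHenselization.etaleStages (A := A) (S := R)).absFlat_tensor
      (GrothLib.Hensel.absFlat_of_field K)
  have hmin : ∀ Q : PrimeSpectrum T, Q.asIdeal ∈ minimalPrimes T := fun Q =>
    ⟨⟨Q.2, bot_le⟩, fun Q' hQ' hle => by
      haveI := hQ'.1
      exact (hflat.eq_of_le hle).ge⟩
  haveI : Finite (PrimeSpectrum T) := by
    haveI : Finite ↥(minimalPrimes T) := (minimalPrimes.finite_of_isNoetherianRing T).to_subtype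
    exact Finite.of_injective (fun Q => (⟨Q.asIdeal, hmin Q⟩ : ↥(minimalPrimes T)))
      fun a b h => PrimeSpectrum.ext (congrArg Subtype.val h)
  let P₀ := Spec (CommRingCat.of T)
  haveI : Finite P₀ := inferInstanceAs (Finite (PrimeSpectrum T))
  haveI : T1Space P₀ := ⟨fun Q => by
    haveI := Q.isPrime
    exact (PrimeSpectrum.isClosed_singleton_iff_isMaximal Q).2 (hflat.isMaximal Q.asIdeal)⟩
  -- residue fields are fields of fractions of branches
  have hres : ∀ Q : P₀, KillVan (Spec (P₀.residueField Q)) N d := by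
    intro Q
    haveI := hflat.isMaximal (PrimeSpectrum.asIdeal Q)
    let L := T ⧸ PrimeSpectrum.asIdeal Q
    letI : Field L := Ideal.Quotient.field _
    let π : R →+* L := (Ideal.Quotient.mk (PrimeSpectrum.asIdeal Q)).comp (algebraMap R T)
    let P : Ideal R := RingHom.ker π
    haveI : P.IsPrime := RingHom.ker_isPrime π
    have hunit : ∀ b : A, φ b ≠ 0 → π (algebraMap A R b) ≠ 0 := fun b hb h0 => by
      have h1 : IsUnit (algebraMap R T (algebraMap A R b)) := by
        rw [← IsScalarTower.algebraMap_apply,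
          ← (Algebra.TensorProduct.includeRight : K →ₐ[A] T).commutes b]
        exact (isUnit_iff_ne_zero.2 hb).map _
      exact (h1.map (Ideal.Quotient.mk (PrimeSpectrum.asIdeal Q))).ne_zero h0
    have hpP : p.map (algebraMap A R) ≤ P := by
      rw [Ideal.map_le_iff_le_comap]
      intro a ha
      change π (algebraMap A R a) = 0
      change Ideal.Quotient.mk _ (algebraMap R T (algebraMap A R a)) = 0
      rw [← IsScalarTower.algebraMap_apply,
        ← (Algebra.TensorProduct.includeRight : K →ₐ[A] T).commutes a,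
        show algebraMap A K a = φ a from rfl, RingHom.mem_ker.1 ha, map_zero, map_zero]
    have hPmin : P ∈ (p.map (algebraMap A R)).minimalPrimes := by
      refine ⟨⟨inferInstance, hpP⟩, ?_⟩
      rintro P' ⟨hP', hle'⟩ hPP
      haveI := hP'
      have hp' : p ≤ P'.comap (algebraMap A R) := Ideal.map_le_iff_le_comap.1 hle'
      let κ' := FractionRing (R ⧸ P')
      let ψ : R →+* κ' := (algebraMap (R ⧸ P') κ').comp (Ideal.Quotient.mk P')
      have hψ : ∀ r : R, ψ r = 0 ↔ r ∈ P' := fun r => by
        change algebraMap (R ⧸ P') κ' (Ideal.Quotient.mk P' r) = 0 ↔ _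
        rw [map_eq_zero_iff _ (IsFractionRing.injective (R ⧸ P') κ'), Ideal.Quotient.eq_zero_iff_mem]
      have hnz : ∀ b : A, φ b ≠ 0 → ψ (algebraMap A R b) ≠ 0 := fun b hb h0 =>
        hunit b hb (RingHom.mem_ker.1 (hPP ((hψ _).1 h0)))
      have halg : ∀ a : A, algebraMap A κ' a = ψ (algebraMap A R a) := fun a =>
        (IsScalarTower.algebraMap_apply A (R ⧸ P') κ' a).trans rfl
      let χ₀ : A ⧸ p →+* κ' := Ideal.Quotient.lift p (ψ.comp (algebraMap A R)) fun a ha => (hψ _).2 (hp' ha)
      have hχ₀ : Function.Injective χ₀ := (injective_iff_map_eq_zero _).2 fun z hz => by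
        obtain ⟨a, rfl⟩ := Ideal.Quotient.mk_surjective z
        rw [Ideal.Quotient.eq_zero_iff_mem]
        by_contra hne
        exact hnz a hne hz
      let χ : K →ₐ[A] κ' :=
        { IsFractionRing.lift (A := A ⧸ p) hχ₀ with
          commutes' := fun a => (IsFractionRing.lift_algebraMap hχ₀ (Ideal.Quotient.mk p a)).trans (halg a).symm }
      let ψA : R →ₐ[A] κ' := { ψ with commutes' := fun a => (halg a).symm }
      let Φ : T →ₐ[A] κ' := Algebra.TensorProduct.lift ψA χ fun _ _ => Commute.all _ _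
      have hΦdef : Φ = Algebra.TensorProduct.lift ψA χ fun _ _ => Commute.all _ _ := rfl
      haveI : (RingHom.ker Φ.toRingHom).IsPrime := RingHom.ker_isPrime _
      have hΦ : ∀ r : R, Φ (algebraMap R T r) = ψ r := fun r => by
        change Φ (r ⊗ₜ[A] (1 : K)) = _
        rw [hΦdef, Algebra.TensorProduct.lift_tmul, map_one, mul_one]
        rfl
      have hQQ : RingHom.ker Φ.toRingHom ≤ PrimeSpectrum.asIdeal Q := by
        intro t ht
        obtain ⟨r, b, hb, e⟩ := exists_num (R := R) hfrac t
        have h1 : r ∈ P' := by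
          rw [← hψ, ← hΦ, ← e, map_mul, show Φ t = 0 from ht, zero_mul]
        have h2 : π r = 0 := RingHom.mem_ker.1 (hPP h1)
        change Ideal.Quotient.mk _ (algebraMap R T r) = 0 at h2
        rw [← e, map_mul, mul_eq_zero] at h2
        exact Ideal.Quotient.eq_zero_iff_mem.1 (h2.resolve_right (hunit b hb))
      have hQe : RingHom.ker Φ.toRingHom = PrimeSpectrum.asIdeal Q := hflat.eq_of_le hQQ
      intro r hr
      have : algebraMap R T r ∈ RingHom.ker Φ.toRingHom := hQe.symm ▸ Ideal.Quotient.eq_zero_iff_mem.1 hr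
      exact (hψ r).1 ((hΦ r).symm.trans this)
    letI : Algebra (R ⧸ P) L := (RingHom.kerLift π).toAlgebra
    haveI : FaithfulSMul (R ⧸ P) L := (faithfulSMul_iff_algebraMap_injective _ _).2 (RingHom.kerLift_injective π)
    haveI : IsFractionRing (R ⧸ P) L := IsFractionRing.of_field _ _ fun z => by
      obtain ⟨t, rfl⟩ := Ideal.Quotient.mk_surjective z
      obtain ⟨r, b, hb, e⟩ := exists_num (R := R) hfrac t
      refine ⟨Ideal.Quotient.mk P r, Ideal.Quotient.mk P (algebraMap A R b), ?_⟩
      change Ideal.Quotient.mk _ t = π r / π (algebraMap A R b)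
      rw [eq_div_iff (hunit b hb)]
      exact (map_mul _ _ _).symm.trans (congrArg _ e)
    let e₁ : FractionRing (R ⧸ P) ≃+* L := (FractionRing.algEquiv (R ⧸ P) L).toRingEquiv
    let e₂ : L ≃+* (PrimeSpectrum.asIdeal Q).ResidueField :=
      RingEquiv.ofBijective _ (Ideal.bijective_algebraMap_quotient_residueField (PrimeSpectrum.asIdeal Q))
    exact killVan_of_iso (Spec.map ((Scheme.Spec.residueFieldIso (CommRingCat.of T) Q).hom ≫
      (e₁.trans e₂).symm.toCommRingCatIso.hom)) (hd P hPmin)
  -- the stalk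
  have hpo := CommRingCat.isPushout_tensorProduct A R K
  have hpb : IsPullback (Spec.map (CommRingCat.ofHom (Algebra.TensorProduct.includeLeftRingHom : R →+* T)))
      (Spec.map (CommRingCat.ofHom (Algebra.TensorProduct.includeRight : K →ₐ[A] T).toRingHom))
      (Hens2.specOf X y R) f := by
    rw [← hf]
    exact GrothLib.HLoc18.isPullback_comp_mono (isPullback_SpecMap_of_isPushout _ _ _ _ hpo) (X.fromSpecStalk y)
  obtain ⟨P, e, he⟩ := GrothLib.EtLimit.exists_proNbhd_hens X y R
  let pr := Spec.map (CommRingCat.ofHom (Algebra.TensorProduct.includeRight : K →ₐ[A] T).toRingHom)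
  have hP : IsPullback (Spec.map (CommRingCat.ofHom (Algebra.TensorProduct.includeLeftRingHom : R →+* T)) ≫ e.hom) pr
      P.bc f :=
    hpb.of_iso (Iso.refl _) e (Iso.refl _) (Iso.refl _) (by simp) (by simp [pr]) (by simp [he]) (by simp)
  obtain ⟨θ⟩ := GrothLib.EtLimit.nonempty_stalk_Rpush_iso hP n
  haveI := GrothLib.EtSite.pull_preservesFiniteLimits pr
  haveI : (EtCoh.pull pr).Additive := (EtCoh.pullPushAdj _).left_adjoint_additive
  haveI := subsingleton_H_discrete (X := P₀) hres ((EtCoh.pull pr).obj G) (killed_map (EtCoh.pull pr) hG) n hn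
  haveI : Subsingleton ((EtCoh.pull pr ⋙ EtCoh.HF (Spec (CommRingCat.of T)) n).obj G) := by assumption
  exact GrothLib.ConstrCpt.isZero_stalk_of_same ξ (Hens2.geomPt X y R)
    ((GrothLib.HLoc18.geomPt_default y R).trans hξ.symm)
    (IsZero.of_iso (AddCommGrpCat.isZero_of_subsingleton _) (θ.app G))

end GrothLib.DimFun18
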