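import Groth.Agent.Lib.DimFun18.Fibre
import Groth.Agent.Lib.ConstrCpt.Supported
import Groth.Agent.Lib.CdBr2.MaxPt
import Groth.Agent.S14451
import Groth.Agent.Lib.CycDiv.Stalk
import Mathlib.Topology.NoetherianSpace
import Mathlib.AlgebraicGeometry.IdealSheaf.Subscheme

/-!
# Cohomological bounds by a dimension function
-/

set_option autoImplicit false
set_option backward.isDefEq.respectTransparency false
set_option backward.isDefEq.respectTransparency.types false
set_option linter.style.haveILetI false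
set_option linter.all false

universe u

open CategoryTheory CategoryTheory.Limits CategoryTheory.Abelian AlgebraicGeometry Opposite IsLocalRing
open GrothLib.EtSite GrothLib.EtTrace21 GrothLib.GalCd GrothLib.EtColim GrothLib.HomGamma

noncomputable section

namespace GrothLib.DimFun18

section Leray

variable {W X : Scheme.{u}} (f : W ⟶ X)

/-- A vanishing criterion from the Leray filtration. -/
theorem H_push_eq_zero_of : ∀ (n : ℕ) (M : EtCoh.Ab W),
    (∀ z : EtCoh.H W M (n + 1), z = 0) →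
    (∀ r b : ℕ, 1 ≤ r → b + r = n → ∀ z : EtCoh.H X ((EtCoh.Rpush f r).obj M) b, z = 0) →
      ∀ a : EtCoh.H X ((EtCoh.push f).obj M) (n + 1), a = 0 := by
  haveI := GrothLib.EtDer.pullFL f
  haveI : PreservesFiniteLimits (EtCoh.push f) :=
    ((EtCoh.pullPushAdj f).rightAdjoint_preservesLimits : PreservesLimitsOfSize.{0, 0} _).preservesFiniteLimits
  haveI : (EtCoh.push f).Additive := Functor.additive_of_preserves_binary_products _
  intro n
  induction n with
  | zero =>
    intro M hM _ a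
    let S := injS M
    have hS := injS_shortExact M
    haveI : Injective S.X₂ := inferInstanceAs (Injective (Injective.under M))
    haveI : Injective ((EtCoh.push f).obj S.X₂) := GrothLib.EtDer.injective_push f S.X₂
    haveI : Mono ((EtCoh.push f).map S.f) := by
      haveI := hS.mono_f
      exact (EtCoh.push f).map_mono S.f
    let m := (EtCoh.push f).map S.f
    let T := ShortComplex.mk m (cokernel.π m) (cokernel.condition m)
    have hT : T.ShortExact := { exact := T.exact_of_g_is_cokernel (cokernelIsCokernel _) }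
    obtain ⟨c, rfl⟩ := Ext.covariant_sequence_exact₁ _ hT a
      (@Ext.eq_zero_of_injective _ _ _ _ _ _ _ (inferInstanceAs (Injective ((EtCoh.push f).obj S.X₂))) _) (rfl : 0 + 1 = 0 + 1)
    have hex := hS.exact.map_of_mono_of_preservesKernel (EtCoh.push f) hS.mono_f inferInstance
    let b : T.X₃ ⟶ (EtCoh.push f).obj S.X₃ := cokernel.desc m ((EtCoh.push f).map S.g)
      (by rw [← Functor.map_comp, S.zero, Functor.map_zero])
    haveI : Mono b := hex.mono_cokernelDesc
    let φ : (EtCoh.const X ℤ) ⟶ (EtCoh.push f).obj S.X₃ := Ext.homEquiv₀ c ≫ b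
    have hc : c = Ext.mk₀ (Ext.homEquiv₀ c) := (Ext.mk₀_homEquiv₀_apply c).symm
    let φ' := ((EtCoh.pullPushAdj f).homEquiv _ _).symm φ
    let i := EtCore.pullConst f ℤ
    have hz : Ext.comp (Ext.mk₀ (i.inv ≫ φ')) hS.extClass (zero_add (0 + 1)) = 0 := hM _
    obtain ⟨ψ₀, hψ₀⟩ := Ext.covariant_sequence_exact₃ _ hS (Ext.mk₀ (i.inv ≫ φ')) rfl hz
    let ψ := i.hom ≫ Ext.homEquiv₀ ψ₀
    have hψ : ψ ≫ S.g = φ' := by
      rw [← Ext.mk₀_homEquiv₀_apply ψ₀, Ext.mk₀_comp_mk₀] at hψ₀
      have := Ext.homEquiv₀.symm.injective hψ₀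
      rw [Category.assoc, this, Iso.hom_inv_id_assoc]
    let ψ' := (EtCoh.pullPushAdj f).homEquiv _ _ ψ
    have hψ' : ψ' ≫ cokernel.π m = Ext.homEquiv₀ c := by
      rw [← cancel_mono b, Category.assoc, cokernel.π_desc]
      change ψ' ≫ (EtCoh.push f).map S.g = φ
      rw [← Adjunction.homEquiv_naturality_right, hψ]
      exact Equiv.apply_symm_apply _ _
    rw [hc, ← hψ', ← Ext.mk₀_comp_mk₀]
    change ((Ext.mk₀ ψ').comp (Ext.mk₀ T.g) (add_zero 0)).comp hT.extClass _ = 0
    rw [Ext.comp_assoc_of_second_deg_zero, hT.comp_extClass, Ext.comp_zero]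
  | succ n ih =>
    intro M hM hR a
    let S := injS M
    have hS := injS_shortExact M
    haveI : Injective S.X₂ := inferInstanceAs (Injective (Injective.under M))
    haveI : Injective ((EtCoh.push f).obj S.X₂) := GrothLib.EtDer.injective_push f S.X₂
    haveI : Mono ((EtCoh.push f).map S.f) := by
      haveI := hS.mono_f
      exact (EtCoh.push f).map_mono S.f
    let m := (EtCoh.push f).map S.f
    let T := ShortComplex.mk m (cokernel.π m) (cokernel.condition m)
    have hT : T.ShortExact := { exact := T.exact_of_g_is_cokernel (cokernelIsCokernel _) }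
    obtain ⟨c, rfl⟩ := Ext.covariant_sequence_exact₁ _ hT a
      (@Ext.eq_zero_of_injective _ _ _ _ _ _ _ (inferInstanceAs (Injective ((EtCoh.push f).obj S.X₂))) _) (rfl : n + 1 + 1 = n + 1 + 1)
    have hex := hS.exact.map_of_mono_of_preservesKernel (EtCoh.push f) hS.mono_f inferInstance
    let b : T.X₃ ⟶ (EtCoh.push f).obj S.X₃ := cokernel.desc m ((EtCoh.push f).map S.g)
      (by rw [← Functor.map_comp, S.zero, Functor.map_zero])
    haveI : Mono b := hex.mono_cokernelDesc
    let U := ShortComplex.mk b (cokernel.π b) (cokernel.condition b)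
    have hU : U.ShortExact := { exact := U.exact_of_g_is_cokernel (cokernelIsCokernel _) }
    let e : U.X₃ ≅ (EtCoh.Rpush f 1).obj M :=
      (cokernelEpiComp (cokernel.π m) b).symm ≪≫ cokernelIsoOfEq (cokernel.π_desc _ _ _) ≪≫
        (shiftIsoOne hS (EtCoh.push f)).symm
    have hM' : ∀ z : EtCoh.H W S.X₃ (n + 1), z = 0 := fun z => by
      obtain ⟨y, hy⟩ := Ext.covariant_sequence_exact₃ _ hS z rfl (hM _)
      rw [← hy, Ext.eq_zero_of_injective y, Ext.zero_comp]
    have hR' : ∀ r b' : ℕ, 1 ≤ r → b' + r = n → ∀ z : EtCoh.H X ((EtCoh.Rpush f r).obj S.X₃) b', z = 0 := by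
      intro r b' hr hb z
      obtain ⟨r', rfl⟩ : ∃ r', r = r' + 1 := ⟨r - 1, by omega⟩
      refine (GrothLib.EtDer.bijective_comp_mk₀ (shiftIso hS (EtCoh.push f) r').symm b').1 ?_
      exact (hR (r' + 2) b' (by omega) (by omega) _).trans (hR (r' + 2) b' (by omega) (by omega) _).symm
    obtain ⟨w, rfl⟩ := Ext.covariant_sequence_exact₁ _ hU c (ih S.X₃ hM' hR' _) (rfl : n + 1 = n + 1)
    have hw : w = 0 := (GrothLib.EtDer.bijective_comp_mk₀ e n).1
      ((hR 1 n le_rfl rfl _).trans (hR 1 n le_rfl rfl _).symm)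
    rw [hw, Ext.zero_comp, Ext.zero_comp]

/-- Higher direct images vanish where all direct images do. -/
theorem isZero_stalk_Rpush_of_push {Ω : Type u} [Field Ω] [IsSepClosed Ω] (ξ : Spec (CommRingCat.of Ω) ⟶ X)
    (h : ∀ M : EtCoh.Ab W, IsZero ((EtCoh.stalk ξ).obj ((EtCoh.push f).obj M))) :
    ∀ (r : ℕ) (M : EtCoh.Ab W), IsZero ((EtCoh.stalk ξ).obj ((EtCoh.Rpush f (r + 1)).obj M)) := by
  haveI : PreservesFiniteLimits (EtCoh.push f) :=
    ((EtCoh.pullPushAdj f).rightAdjoint_preservesLimits : PreservesLimitsOfSize.{0, 0} _).preservesFiniteLimits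
  haveI : (EtCoh.push f).Additive := Functor.additive_of_preserves_binary_products _
  haveI := GrothLib.EtSite.additive_stalk ξ
  haveI := GrothLib.EtSite.preservesFiniteColimits_stalk ξ
  intro r
  induction r with
  | zero =>
    intro M
    let S := injS M
    haveI : Injective S.X₂ := inferInstanceAs (Injective (Injective.under M))
    refine IsZero.of_iso ?_ ((EtCoh.stalk ξ).mapIso (shiftIsoOne (injS_shortExact M) (EtCoh.push f)))
    exact IsZero.of_epi ((EtCoh.stalk ξ).map (cokernel.π _)) (h S.X₃)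
  | succ r ih =>
    intro M
    let S := injS M
    haveI : Injective S.X₂ := inferInstanceAs (Injective (Injective.under M))
    exact IsZero.of_iso (ih S.X₃) ((EtCoh.stalk ξ).mapIso (shiftIso (injS_shortExact M) (EtCoh.push f) r))

end Leray

variable {X : Scheme.{u}}

theorem supp_subset_of_suppIn {G : EtCoh.Ab X} {S : Set X} (h : SuppIn G S) : EtPBC.supp G ⊆ S := by
  rintro x ⟨Ω, _, _, ξ, hξ, hne⟩
  by_contra hx
  refine hne (h Ω ξ ?_)
  have : ξ.base (default : Spec (CommRingCat.of Ω)) ∈ ({x} : Set X) := hξ ▸ Set.mem_range_self _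
  rw [Set.mem_singleton_iff] at this
  rwa [this]

theorem suppIn_of_supp_subset {G : EtCoh.Ab X} {S : Set X} (h : EtPBC.supp G ⊆ S) : SuppIn G S :=
  fun _ _ _ ξ hξ => GrothLib.ConstrCpt.isZero_stalk_of_notMem_supp ξ fun hx => hξ (h hx)

theorem SuppIn.of_mono {G H : EtCoh.Ab X} {S : Set X} (i : H ⟶ G) [Mono i] (h : SuppIn G S) : SuppIn H S := by
  intro Ω _ _ ξ hξ
  haveI := GrothLib.EtSite.additive_stalk ξ
  haveI := GrothLib.EtSite.preservesFiniteLimits_stalk ξ
  haveI : Mono ((EtCoh.stalk ξ).map i) := inferInstance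
  exact IsZero.of_mono ((EtCoh.stalk ξ).map i) (h Ω ξ hξ)

theorem SuppIn.of_epi {G H : EtCoh.Ab X} {S : Set X} (p : G ⟶ H) [Epi p] (h : SuppIn G S) : SuppIn H S := by
  intro Ω _ _ ξ hξ
  haveI := GrothLib.EtSite.additive_stalk ξ
  haveI := GrothLib.EtSite.preservesFiniteColimits_stalk ξ
  exact IsZero.of_epi ((EtCoh.stalk ξ).map p) (h Ω ξ hξ)

theorem killed_quot {N : ℕ} {G H : EtCoh.Ab X} (p : G ⟶ H) [Epi p] (h : N • 𝟙 G = 0) : N • 𝟙 H = 0 := by
  rw [← cancel_epi p, Preadditive.comp_nsmul, Category.comp_id, comp_zero, ← Category.id_comp p,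
    ← Preadditive.nsmul_comp, h, zero_comp]

/-- The vanishing to be proved on a closed set. -/
def Van (N : ℕ) (φ : X → ℕ) (Z : Set X) : Prop :=
  ∀ G : EtCoh.Ab X, N • 𝟙 G = 0 → SuppIn G Z → ∀ q : ℕ, (∀ z ∈ Z, φ z < q) → ∀ x : EtCoh.H X G q, x = 0

/-- From closed sets to sets stable under specialization. -/
theorem van_stable [AlgebraicGeometry.IsNoetherian X] {N : ℕ} (hN : N ≠ 0) (φ : X → ℕ) {E : Set X}
    (hE : StableUnderSpecialization E) (h : ∀ Z : TopologicalSpace.Closeds X, (Z : Set X) ⊆ E → Van N φ Z) :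
    Van N φ E := by
  intro G hG hs q hq x
  obtain ⟨J, _, _, D, c, hc, ⟨e⟩, hD⟩ := GrothLib.ConstrCpt.exists_colimit_in_stable hE
    (isTorsion_of_killed hN hG) (supp_subset_of_suppIn hs)
  let e' : colimit D ≅ G := (colimit.isColimit D).coconePointUniqueUpToIso hc ≪≫ e
  obtain ⟨i, z, hz⟩ := (gen_and_kill D q).1 (Ext.comp x (Ext.mk₀ e'.inv) (add_zero q))
  let ψ₀ : D.obj i ⟶ G := colimit.ι D i ≫ e'.hom
  have hy : Ext.comp z (Ext.mk₀ ψ₀) (add_zero q) = x := by
    have := congrArg (fun w => Ext.comp w (Ext.mk₀ e'.hom) (add_zero q)) hz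
    simp only [Ext.comp_assoc_of_third_deg_zero, Ext.mk₀_comp_mk₀, Iso.inv_hom_id, Ext.comp_mk₀_id] at this
    exact this
  obtain ⟨Z, hZc, hZE, hZs⟩ := (hD i).2
  let π := cokernel.π (N • 𝟙 (D.obj i))
  let ψ : cokernel (N • 𝟙 (D.obj i)) ⟶ G := cokernel.desc _ ψ₀ (by
    rw [Preadditive.nsmul_comp, Category.id_comp, ← Category.comp_id ψ₀, ← Preadditive.comp_nsmul, hG, comp_zero])
  have hQ : N • 𝟙 (cokernel (N • 𝟙 (D.obj i))) = 0 := by
    rw [← cancel_epi π, Preadditive.comp_nsmul, Category.comp_id, comp_zero]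
    have := cokernel.condition (N • 𝟙 (D.obj i))
    rwa [Preadditive.nsmul_comp, Category.id_comp] at this
  rw [← hy, show ψ₀ = π ≫ ψ from (cokernel.π_desc _ _ _).symm, ← Ext.mk₀_comp_mk₀,
    ← Ext.comp_assoc_of_third_deg_zero,
    h ⟨Z, hZc⟩ hZE _ hQ ((suppIn_of_supp_subset hZs).of_epi π) q (fun z hz => hq z (hZE hz)) (Ext.comp z (Ext.mk₀ π) (add_zero q)),
    Ext.zero_comp]

theorem specMap_eq_zero {Y : Scheme.{u}} {x y : Y} (h : x ⤳ y) (e : x = y) (a : Y.presheaf.stalk y)
    (ha : a ∈ maximalIdeal (Y.presheaf.stalk y : Type u)) : Cyc.specMap y x h a = 0 := by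
  subst e
  change Y.residue x (Y.presheaf.stalkSpecializes h a) = 0
  rw [TopCat.Presheaf.stalkSpecializes_refl]
  exact (IsLocalRing.residue_eq_zero_iff a).2 ha

/-- The comparison with the direct image from a maximal point of a closed subscheme. -/
theorem exists_comparison {V : Scheme.{u}} [AlgebraicGeometry.IsNoetherian V] (i : V ⟶ X) [IsClosedImmersion i]
    (η' : V) (hη'max : ∀ v, v ⤳ η' → v = η') (η : X) (hη' : i.base η' = η)
    [PreservesFiniteLimits (EtCoh.pull i)] [PreservesFiniteLimits (EtCoh.pull (V.fromSpecResidueField η'))]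
    (G : EtCoh.Ab X) :
    ∃ u : G ⟶ (EtCoh.push (V.fromSpecResidueField η' ≫ i)).obj
        ((EtCoh.pull (V.fromSpecResidueField η')).obj ((EtCoh.pull i).obj G)),
      ∀ (Ω : Type u) [Field Ω] [IsSepClosed Ω] (ξ : Spec (CommRingCat.of Ω) ⟶ X),
        ξ.base (default : Spec (CommRingCat.of Ω)) = η → IsIso ((EtCoh.stalk ξ).map u) := by
  let f₀ := V.fromSpecResidueField η'
  let M := (EtCoh.pull f₀).obj ((EtCoh.pull i).obj G)
  let u₁ := (EtCoh.pullPushAdj i).unit.app G
  let u₂ := (EtCoh.pullPushAdj f₀).unit.app ((EtCoh.pull i).obj G)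
  refine ⟨u₁ ≫ (EtCoh.push i).map u₂ ≫ (EtCoh.pushComp i f₀).hom.app M, ?_⟩
  intro Ω _ _ ξ hξ
  obtain ⟨ζ, rfl, hζ⟩ := GrothLib.Constructible.exists_point_lift i ξ η' (hη'.trans hξ.symm)
  haveI h₂ : IsIso ((EtCoh.stalk ζ).map u₂) := by
    obtain ⟨ζ₀, rfl⟩ := GrothLib.CdBr2.exists_lift_residue ζ η' hζ
    haveI := GrothLib.CdBr2.isIso_counit_maxPt η' hη'max M
    have e := (EtCoh.pullPushAdj f₀).left_triangle_components ((EtCoh.pull i).obj G)
    haveI : IsIso ((EtCoh.pull f₀).map u₂ ≫ (EtCoh.pullPushAdj f₀).counit.app M) :=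
      ⟨𝟙 _, by rw [Category.comp_id]; exact e, by rw [Category.id_comp]; exact e⟩
    haveI : IsIso ((EtCoh.pull f₀).map u₂) := IsIso.of_isIso_comp_right _ ((EtCoh.pullPushAdj f₀).counit.app M)
    exact (NatIso.isIso_map_iff (pullStalkIso ζ₀ f₀) u₂).1 (by
      change IsIso ((EtCoh.stalk ζ₀).map ((EtCoh.pull f₀).map u₂))
      infer_instance)
  haveI hA : IsIso ((EtCoh.stalk (ζ ≫ i)).map u₁) := by
    haveI := GrothLib.EtSite.isIso_counit i ((EtCoh.pull i).obj G)
    have e := (EtCoh.pullPushAdj i).left_triangle_components G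
    haveI : IsIso ((EtCoh.pull i).map u₁ ≫ (EtCoh.pullPushAdj i).counit.app ((EtCoh.pull i).obj G)) :=
      ⟨𝟙 _, by rw [Category.comp_id]; exact e, by rw [Category.id_comp]; exact e⟩
    haveI : IsIso ((EtCoh.pull i).map u₁) := IsIso.of_isIso_comp_right _ ((EtCoh.pullPushAdj i).counit.app ((EtCoh.pull i).obj G))
    exact (NatIso.isIso_map_iff (pullStalkIso ζ i) u₁).1 (by
      change IsIso ((EtCoh.stalk ζ).map ((EtCoh.pull i).map u₁))
      infer_instance)
  haveI hB : IsIso ((EtCoh.stalk (ζ ≫ i)).map ((EtCoh.push i).map u₂)) := by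
    refine (NatIso.isIso_map_iff (pullStalkIso ζ i) ((EtCoh.push i).map u₂)).1 ?_
    change IsIso ((EtCoh.stalk ζ).map ((EtCoh.pull i).map ((EtCoh.push i).map u₂)))
    have hnat : (EtCoh.pull i).map ((EtCoh.push i).map u₂) ≫ (EtCoh.pullPushAdj i).counit.app _ =
        (EtCoh.pullPushAdj i).counit.app _ ≫ u₂ := (EtCoh.pullPushAdj i).counit.naturality u₂
    haveI := GrothLib.EtSite.isIso_counit i ((EtCoh.pull i).obj G)
    haveI := GrothLib.EtSite.isIso_counit i ((EtCoh.push f₀).obj M)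
    have e : (EtCoh.pull i).map ((EtCoh.push i).map u₂) = (EtCoh.pullPushAdj i).counit.app _ ≫ u₂ ≫
        inv ((EtCoh.pullPushAdj i).counit.app ((EtCoh.push f₀).obj M)) := by
      rw [← Category.assoc]
      exact (IsIso.eq_comp_inv _).2 hnat
    rw [e, Functor.map_comp, Functor.map_comp]
    infer_instance
  change IsIso ((EtCoh.stalk (ζ ≫ i)).map (u₁ ≫ (EtCoh.push i).map u₂ ≫ (EtCoh.pushComp i f₀).hom.app M))
  rw [Functor.map_comp, Functor.map_comp]
  infer_instance


variable [AlgebraicGeometry.IsNoetherian X] (N : ℕ) (φ : X → ℕ)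
  (h1 : ∀ x : X, KillVan (Spec (X.residueField x)) N (φ x))
  (h2 : ∀ (x y : X) (hxy : x ⤳ y), x ≠ y →
    ∀ (R : Type u) [CommRing R] [IsLocalRing R] [Algebra (X.presheaf.stalk y) R]
      [IsLocalHom (algebraMap (X.presheaf.stalk y) R)] [Hensel.IsStrictHenselization (X.presheaf.stalk y) R],
    ∀ P ∈ ((RingHom.ker (Cyc.specMap y x hxy)).map (algebraMap (X.presheaf.stalk y) R)).minimalPrimes,
      ∃ d : ℕ, d + 1 + φ y ≤ φ x ∧ KillVan (Spec (CommRingCat.of (FractionRing (R ⧸ P)))) N d)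

include h2 in
/-- The function increases strictly along proper generalizations. -/
theorem phi_lt {x y : X} (hxy : x ⤳ y) (hne : x ≠ y) : φ y < φ x := by
  let R := GrothLib.Hensel.StrictHens (X.presheaf.stalk y : Type u)
  haveI := GrothLib.Hensel.IsStrictHenselization.faithfullyFlat (R := (X.presheaf.stalk y : Type u)) (S := R)
  obtain ⟨P, hP⟩ := Ideal.nonempty_minimalPrimes
    (I := (RingHom.ker (Cyc.specMap y x hxy)).map (algebraMap (X.presheaf.stalk y : Type u) R)) (by
      intro h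
      have h' := congrArg (Ideal.comap (algebraMap (X.presheaf.stalk y : Type u) R)) h
      rw [Ideal.comap_map_eq_self_of_faithfullyFlat, Ideal.comap_top] at h'
      exact RingHom.ker_ne_top _ h')
  obtain ⟨d, hd, -⟩ := h2 x y hxy hne R P hP
  omega

include h1 h2 in
set_option maxHeartbeats 1600000 in
set_option synthInstance.maxHeartbeats 100000 in
/-- Vanishing on every closed set. -/
theorem van_closed (hN : N ≠ 0) : ∀ Z : TopologicalSpace.Closeds X, Van N φ Z := by
  intro Z
  induction Z using WellFoundedLT.induction with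
  | ind Z IH =>
  intro G hG hs q hq x
  by_cases hZ : (Z : Set X).Nonempty
  swap
  · rw [Set.not_nonempty_iff_eq_empty] at hZ
    have h0 := isZero_of_suppIn_empty G (hZ ▸ hs)
    rw [← Ext.comp_mk₀_id x, show (𝟙 G : G ⟶ G) = 0 from h0.eq_of_src _ _, Ext.mk₀_zero, Ext.comp_zero]
  -- a point where `φ` is largest
  obtain ⟨η, hη, hmax⟩ : ∃ η ∈ (Z : Set X), ∀ z ∈ (Z : Set X), φ z ≤ φ η := by
    obtain ⟨m, ⟨η, hη, rfl⟩, hm⟩ := ((Set.finite_lt_nat q).subset
      (show φ '' (Z : Set X) ⊆ {i | i < q} by rintro _ ⟨z, hz, rfl⟩; exact hq z hz)).exists_maximal (hZ.image φ)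
    exact ⟨η, hη, fun z hz => (le_total (φ z) (φ η)).elim id fun h => hm ⟨z, hz, rfl⟩ h⟩
  have hηmax : ∀ z ∈ (Z : Set X), z ⤳ η → z = η := fun z hz hzη => by
    by_contra hne
    have := phi_lt N φ h2 hzη hne
    have := hmax z hz
    omega
  -- the reduced closure
  let C : TopologicalSpace.Closeds X := ⟨closure {η}, isClosed_closure⟩
  have hCZ : (C : Set X) ⊆ Z := Z.isClosed.closure_subset_iff.2 (Set.singleton_subset_iff.2 hη)
  let I := Scheme.IdealSheafData.vanishingIdeal C
  let V := I.subscheme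
  let i : V ⟶ X := I.subschemeι
  haveI : AlgebraicGeometry.IsNoetherian V := by
    haveI : IsLocallyNoetherian V := LocallyOfFiniteType.isLocallyNoetherian i
    haveI : CompactSpace V := QuasiCompact.compactSpace_of_compactSpace i
    exact {}
  have hrange : Set.range i.base = (C : Set X) := by
    rw [Scheme.IdealSheafData.range_subschemeι]
    exact Scheme.IdealSheafData.coe_support_vanishingIdeal _
  obtain ⟨η', hη'⟩ : η ∈ Set.range i.base := hrange ▸ subset_closure rfl
  have hη'max : ∀ v, v ⤳ η' → v = η' := fun v hv => i.isClosedEmbedding.injective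
    (((hηmax _ (hCZ (hrange ▸ ⟨v, rfl⟩)) (hη' ▸ hv.map i.continuous))).trans hη'.symm)
  let f₀ := V.fromSpecResidueField η'
  let f := f₀ ≫ i
  let K : Type u := (V.residueField η' : Type u)
  have hsur : Function.Bijective (i.residueFieldMap η').hom := by
    refine ⟨RingHom.injective _, fun b => ?_⟩
    obtain ⟨b', rfl⟩ := IsLocalRing.residue_surjective b
    obtain ⟨a, rfl⟩ := i.stalkMap_surjective η' b'
    exact ⟨X.residue (i.base η') a, congr($(Scheme.residue_residueFieldMap i η') a)⟩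
  have hK : KillVan (Spec (V.residueField η')) N (φ η) := by
    have h := h1 (i.base η')
    rw [hη'] at h
    haveI : IsIso (i.residueFieldMap η') := (ConcreteCategory.isIso_iff_bijective _).2 hsur
    have h' := h1 (i.base η')
    rw [show φ (i.base η') = φ η from congrArg φ hη'] at h'
    exact killVan_of_iso (Spec.map (inv (i.residueFieldMap η'))) h'
  haveI := GrothLib.EtDer.pullFL i
  haveI := GrothLib.EtDer.pullFL f₀
  haveI := GrothLib.EtDer.pullFL f
  haveI : (EtCoh.pull i).Additive := (EtCoh.pullPushAdj _).left_adjoint_additive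
  haveI : (EtCoh.pull f₀).Additive := (EtCoh.pullPushAdj _).left_adjoint_additive
  haveI : PreservesFiniteLimits (EtCoh.push f) :=
    ((EtCoh.pullPushAdj f).rightAdjoint_preservesLimits : PreservesLimitsOfSize.{0, 0} _).preservesFiniteLimits
  haveI : (EtCoh.push f).Additive := Functor.additive_of_preserves_binary_products _
  let M := (EtCoh.pull f₀).obj ((EtCoh.pull i).obj G)
  have hM : N • 𝟙 M = 0 := killed_map (EtCoh.pull f₀) (killed_map (EtCoh.pull i) hG)
  have hout : ∀ (H : EtCoh.Ab (Spec (V.residueField η'))) (Ω : Type u) [Field Ω] [IsSepClosed Ω]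
      (ξ : Spec (CommRingCat.of Ω) ⟶ X), ξ.base (default : Spec (CommRingCat.of Ω)) ∉ (C : Set X) →
        IsZero ((EtCoh.stalk ξ).obj ((EtCoh.push f).obj H)) := fun H Ω _ _ ξ hξ =>
    IsZero.of_iso (GrothLib.EtSite.stalk_push_isZero i _ ξ (hrange ▸ hξ))
      ((EtCoh.stalk ξ).mapIso ((EtCoh.pushComp i f₀).app H).symm)
  -- the direct image from the point
  have hpush : ∀ a : EtCoh.H X ((EtCoh.push f).obj M) q, a = 0 := by
    have hq0 := hq η hη
    obtain ⟨n, rfl⟩ : ∃ n, q = n + 1 := ⟨q - 1, by omega⟩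
    refine H_push_eq_zero_of f n M (fun z => ?_) fun r b hr hb z => ?_
    · haveI := hK M hM (n + 1) hq0
      exact Subsingleton.elim _ _
    obtain ⟨r', rfl⟩ : ∃ r', r = r' + 1 := ⟨r - 1, by omega⟩
    let E : Set X := {y | y ∈ (C : Set X) ∧ φ y + (r' + 1) < φ η}
    have hE : StableUnderSpecialization E := fun y y' hyy' hy => by
      refine ⟨hyy'.mem_closed C.isClosed hy.1, ?_⟩
      rcases eq_or_ne y y' with rfl | hne
      · exact hy.2
      · have := phi_lt N φ h2 hyy' hne
        have := hy.2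
        omega
    haveI : (EtCoh.Rpush f (r' + 1)).Additive := inferInstanceAs (((EtCoh.push f).rightDerived (r' + 1)).Additive)
    refine van_stable hN φ hE (fun Z' hZ' => IH Z' ?_) _ (killed_map (EtCoh.Rpush f (r' + 1)) hM) ?_ b ?_ z
    · refine lt_of_le_of_ne (fun y hy => hCZ (hZ' hy).1) fun he => ?_
      have := (hZ' (he ▸ hη : η ∈ (Z' : Set X))).2
      omega
    swap
    · intro y hy
      have := hy.2
      omega
    intro Ω _ _ ξ hξ
    by_cases hC : ξ.base (default : Spec (CommRingCat.of Ω)) ∈ (C : Set X)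
    swap
    · exact isZero_stalk_Rpush_of_push f ξ (fun H => hout H Ω ξ hC) r' M
    set y := ξ.base (default : Spec (CommRingCat.of Ω)) with hy
    have hbd : φ η ≤ φ y + (r' + 1) := not_lt.1 fun h => hξ ⟨hC, h⟩
    have hsp : i.base η' ⤳ y := by rw [hη']; exact specializes_iff_mem_closure.2 hC
    let R := GrothLib.Hensel.StrictHens (X.presheaf.stalk y : Type u)
    haveI : IsNoetherianRing R :=
      (GrothLib.Hensel.IsStrictHenselization.isNoetherianRing_iff (R := (X.presheaf.stalk y : Type u)) (S := R)).1 inferInstance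
    haveI : IsSepClosed (ResidueField R) :=
      (inferInstance : _root_.Hensel.IsStrictHenselization (X.presheaf.stalk y : Type u) R).isSepClosure.sep_closed
    let φ' : (X.presheaf.stalk y : Type u) →+* K := (i.residueFieldMap η').hom.comp (Cyc.specMap y (i.base η') hsp)
    have hker : RingHom.ker φ' = RingHom.ker (Cyc.specMap y (i.base η') hsp) :=
      RingHom.ker_comp_of_injective _ hsur.1
    refine isZero_stalk_Rpush y R K φ' (fun w => ?_) f ?_ N (φ η - φ y - 1) (r' + 1) (by omega) (fun P hP => ?_) M hM ξ rfl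
    · obtain ⟨w', rfl⟩ := hsur.2 w
      obtain ⟨a, b', hb', hab⟩ := GrothLib.CycDiv.exists_frac hsp w'
      refine ⟨a, b', fun h0 => hb' ?_, ?_⟩
      · exact RingHom.mem_ker.2 (hsur.1 (h0.trans (map_zero _).symm))
      · exact ((map_mul _ _ _).symm.trans (congrArg _ hab))
    · change Spec.map ((X.presheaf.stalkSpecializes hsp ≫ X.residue (i.base η')) ≫ i.residueFieldMap η') ≫ X.fromSpecStalk y = f
      rw [Spec.map_comp, Spec.map_comp, Category.assoc, Category.assoc, Scheme.SpecMap_stalkSpecializes_fromSpecStalk]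
      exact Scheme.Hom.SpecMap_residueFieldMap_fromSpecResidueField i η'
    · rw [hker] at hP
      rcases eq_or_ne (i.base η') y with hey | hne
      · intro H hH t ht
        suffices hP0 : P = maximalIdeal R by
          subst hP0
          letI : Field (R ⧸ maximalIdeal R) := Ideal.Quotient.field _
          haveI : IsSepClosed (FractionRing (R ⧸ maximalIdeal R)) := by
            haveI : IsSepClosed (R ⧸ maximalIdeal R) := ‹IsSepClosed (ResidueField R)›
            exact GrothLib.GalCd.isSepClosed_of_ringEquiv (A := R ⧸ maximalIdeal R)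
              (FractionRing.algEquiv (R ⧸ maximalIdeal R) (R ⧸ maximalIdeal R)).symm.toRingEquiv
          exact killVan_sepClosed _ N _ H hH t ht
        have hk : RingHom.ker (Cyc.specMap y (i.base η') hsp) = maximalIdeal (X.presheaf.stalk y : Type u) := by
          refine le_antisymm (le_maximalIdeal (RingHom.ker_ne_top _)) fun a ha => ?_
          exact RingHom.mem_ker.2 (specMap_eq_zero hsp hey a ha)
        rw [hk, GrothLib.Hensel.IsStrictHenselization.map_maximalIdeal,
          Ideal.minimalPrimes_eq_subsingleton_self] at hP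
        exact hP
      · obtain ⟨d, hd, hdv⟩ := h2 (i.base η') y hsp hne R P hP
        rw [show φ (i.base η') = φ η from congrArg φ hη'] at hd
        exact fun H hH t ht => hdv H hH t (by omega)
  -- the comparison
  obtain ⟨u, hu⟩ : ∃ u : G ⟶ (EtCoh.push f).obj M, ∀ (Ω : Type u) [Field Ω] [IsSepClosed Ω]
      (ξ : Spec (CommRingCat.of Ω) ⟶ X), ξ.base (default : Spec (CommRingCat.of Ω)) = η →
        IsIso ((EtCoh.stalk ξ).map u) := exists_comparison i η' hη'max η hη' G
  let K₁ := ShortComplex.mk (kernel.ι u) (cokernel.π (kernel.ι u)) (cokernel.condition _)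
  have hK₁ : K₁.ShortExact := { exact := K₁.exact_of_g_is_cokernel (cokernelIsCokernel _) }
  let b : K₁.X₃ ⟶ (EtCoh.push f).obj M := Abelian.factorThruCoimage u
  haveI : Mono b := inferInstanceAs (Mono (Abelian.factorThruCoimage _))
  have hb : K₁.g ≫ b = u := Abelian.coimage.fac _
  let K₂ := ShortComplex.mk b (cokernel.π b) (cokernel.condition b)
  have hK₂ : K₂.ShortExact := { exact := K₂.exact_of_g_is_cokernel (cokernelIsCokernel _) }
  let E₁ : Set X := {y | y ∈ (Z : Set X) ∧ y ≠ η}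
  have hE₁ : StableUnderSpecialization E₁ := fun y y' hyy' hy =>
    ⟨hyy'.mem_closed Z.isClosed hy.1, fun he => hy.2 (hηmax y hy.1 (he ▸ hyy'))⟩
  have hsub : ∀ Z' : TopologicalSpace.Closeds X, (Z' : Set X) ⊆ E₁ → Van N φ Z' := fun Z' hZ' =>
    IH Z' (lt_of_le_of_ne (fun y hy => (hZ' hy).1) fun he => (hZ' (he ▸ hη : η ∈ (Z' : Set X))).2 rfl)
  have hs1 : SuppIn K₁.X₁ E₁ := by
    intro Ω _ _ ξ hξ
    by_cases hZ' : ξ.base (default : Spec (CommRingCat.of Ω)) ∈ (Z : Set X)
    · have he : ξ.base (default : Spec (CommRingCat.of Ω)) = η := by_contra fun h => hξ ⟨hZ', h⟩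
      haveI := GrothLib.EtSite.additive_stalk ξ
      haveI := GrothLib.EtSite.preservesFiniteLimits_stalk ξ
      haveI := hu Ω ξ he
      haveI : Mono ((EtCoh.stalk ξ).map (kernel.ι u)) := inferInstance
      refine IsZero.of_mono_eq_zero ((EtCoh.stalk ξ).map (kernel.ι u)) ?_
      rw [← cancel_mono ((EtCoh.stalk ξ).map u), ← Functor.map_comp, zero_comp, kernel.condition, Functor.map_zero]
    · exact hs.of_mono (kernel.ι u) Ω ξ hZ'
  let E₂ : Set X := {y | y ∈ (C : Set X) ∧ y ≠ η}
  have hE₂₁ : E₂ ⊆ E₁ := fun y hy => ⟨hCZ hy.1, hy.2⟩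
  have hE₂ : StableUnderSpecialization E₂ := fun y y' hyy' hy =>
    ⟨hyy'.mem_closed C.isClosed hy.1, (hE₁ hyy' (hE₂₁ hy)).2⟩
  have hs2 : SuppIn K₂.X₃ E₂ := by
    intro Ω _ _ ξ hξ
    haveI := GrothLib.EtSite.additive_stalk ξ
    haveI := GrothLib.EtSite.preservesFiniteColimits_stalk ξ
    by_cases he : ξ.base (default : Spec (CommRingCat.of Ω)) = η
    · haveI := hu Ω ξ he
      haveI : Epi ((EtCoh.stalk ξ).map b) := by
        haveI : Epi ((EtCoh.stalk ξ).map K₁.g ≫ (EtCoh.stalk ξ).map b) := by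
          rw [← Functor.map_comp, hb]
          infer_instance
        exact epi_of_epi ((EtCoh.stalk ξ).map K₁.g) _
      exact IsZero.of_iso (isZero_cokernel_of_epi _) (PreservesCokernel.iso (EtCoh.stalk ξ) b)
    · haveI : Epi ((EtCoh.stalk ξ).map (cokernel.π b)) := inferInstance
      exact IsZero.of_epi ((EtCoh.stalk ξ).map (cokernel.π b))
        (hout M Ω ξ fun hC => hξ ⟨hC, he⟩)
  have h2' : Ext.comp x (Ext.mk₀ K₁.g) (add_zero q) = 0 := by
    obtain ⟨n, rfl⟩ : ∃ n, q = n + 1 := ⟨q - 1, by have := hq η hη; omega⟩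
    obtain ⟨w, hw⟩ := Ext.covariant_sequence_exact₁ _ hK₂ (Ext.comp x (Ext.mk₀ K₁.g) (add_zero (n + 1)))
      (hpush _) (rfl : n + 1 = n + 1)
    have hlt : ∀ z ∈ E₂, φ z < n := fun z hz => by
      have h3 := hq η hη
      have h4 : φ z < φ η := phi_lt N φ h2 (specializes_iff_mem_closure.2 hz.1) (fun h => hz.2 h.symm)
      omega
    rw [← hw, van_stable hN φ hE₂ (fun Z' hZ' => hsub Z' (hZ'.trans hE₂₁)) _ (killed_quot (cokernel.π b) (killed_map (EtCoh.push f) hM)) hs2 n hlt w,
      Ext.zero_comp]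
  obtain ⟨y, rfl⟩ := Ext.covariant_sequence_exact₂ _ hK₁ x h2'
  rw [van_stable hN φ hE₁ hsub K₁.X₁ (killed_sub (kernel.ι u) hG) hs1 q (fun z hz => hq z hz.1) y, Ext.zero_comp]

end GrothLib.DimFun18
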