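import Groth.Agent.Lib.DimFun18.Main
import Groth.Agent.Lib.ConstrCpt.Killed
import Groth.Agent.Lib.CdP18.Main

/-!
# Primary torsion sheaves and dimension functions
-/

set_option autoImplicit false
set_option backward.isDefEq.respectTransparency false
set_option backward.isDefEq.respectTransparency.types false
set_option linter.style.haveILetI false
set_option linter.all false

universe u

open CategoryTheory CategoryTheory.Limits CategoryTheory.Abelian AlgebraicGeometry Opposite
open GrothLib.EtSite GrothLib.EtTrace21 GrothLib.GalCd GrothLib.EtColim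

noncomputable section

namespace GrothLib.DimFun18

variable {X : Scheme.{u}} [AlgebraicGeometry.IsNoetherian X]

/-- Devissage to sheaves killed by the prime. -/
theorem van_pow {p : ℕ} {E : Set X} {q : ℕ}
    (h : ∀ G : EtCoh.Ab X, p • 𝟙 G = 0 → SuppIn G E → ∀ y : EtCoh.H X G q, y = 0) :
    ∀ (v : ℕ) (G : EtCoh.Ab X), p ^ v • 𝟙 G = 0 → SuppIn G E → ∀ y : EtCoh.H X G q, y = 0
  | 0, G, hG, _, y => by
    rw [pow_zero, one_smul] at hG
    rw [← Ext.comp_mk₀_id y, hG]
    simp
  | v + 1, G, hG, hs, y => by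
    let T := ShortComplex.mk (kernel.ι (p • 𝟙 G)) (cokernel.π (kernel.ι (p • 𝟙 G))) (cokernel.condition _)
    have hT : T.ShortExact := { exact := T.exact_of_g_is_cokernel (cokernelIsCokernel _) }
    let b : T.X₃ ⟶ G := Abelian.factorThruCoimage (p • 𝟙 G)
    have hb : T.g ≫ b = p • 𝟙 G := Abelian.coimage.fac _
    haveI : Mono b := inferInstanceAs (Mono (Abelian.factorThruCoimage _))
    have hQ : p ^ v • 𝟙 T.X₃ = 0 := by
      haveI : Epi T.g := hT.epi_g
      rw [← cancel_mono b, ← cancel_epi T.g, Preadditive.nsmul_comp, Category.id_comp, Preadditive.comp_nsmul, hb,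
        zero_comp, comp_zero, ← mul_nsmul', ← pow_succ, hG]
    obtain ⟨w, hw⟩ := Ext.covariant_sequence_exact₂ _ hT y (van_pow h v T.X₃ hQ (hs.of_mono b) _)
    have hK : p • 𝟙 T.X₁ = 0 := by
      rw [← cancel_mono (kernel.ι (p • 𝟙 G)), Preadditive.nsmul_comp, Category.id_comp, zero_comp]
      have := kernel.condition (p • 𝟙 G)
      rwa [Preadditive.comp_nsmul, Category.comp_id] at this
    rw [← hw, h _ hK (hs.of_mono (kernel.ι (p • 𝟙 G))) w, Ext.zero_comp]

/-- Vanishing for primary torsion sheaves. -/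
theorem H_eq_zero_of_primary (p : ℕ) [Fact p.Prime] {E : Set X} {q : ℕ}
    (h : ∀ G : EtCoh.Ab X, p • 𝟙 G = 0 → SuppIn G E → ∀ y : EtCoh.H X G q, y = 0)
    (F : EtCoh.Ab X) (hF : Dix.IsPrimaryTorsion p F) (hs : SuppIn F E) (x : EtCoh.H X F q) : x = 0 := by
  have htors : EtCoh.IsTorsion F := fun V s v => by
    obtain ⟨V', g, hv, k, hk⟩ := hF V s v
    exact ⟨V', g, hv, isOfFinAddOrder_iff_nsmul_eq_zero.2 ⟨p ^ k, pow_pos (Fact.out : p.Prime).pos k, hk⟩⟩
  obtain ⟨G, i, y, N, hN, hG, rfl⟩ := GrothLib.GalCd.exists_killed_preimage htors q x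
  obtain ⟨v, M, hM, hNM⟩ := Nat.exists_eq_pow_mul_and_not_dvd hN p (Fact.out : p.Prime).ne_one
  let G' := Abelian.image i
  let π : G ⟶ G' := Abelian.factorThruImage i
  have hG' : N • 𝟙 G' = 0 := GrothLib.ConstrCpt.nsmul_id_eq_zero_of_epi π hG
  have hG'' : p ^ v • 𝟙 G' = 0 := by
    refine ObjectProperty.hom_ext _ (NatTrans.ext (funext fun V => AddCommGrpCat.hom_ext (AddMonoidHom.ext fun s => ?_)))
    have hs : N • s = 0 := GrothLib.ConstrCpt.killedBy_of_nsmul_id hG' V.unop s
    refine Eq.trans (map_nsmul (AddMonoidHom.mk' (fun k : G' ⟶ G' => k.hom.app V s) fun _ _ => rfl) (p ^ v) (𝟙 G')) ?_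
    change p ^ v • s = 0
    refine GrothLib.EtSite.section_eq_zero_of_germs G' V.unop _ fun Ω _ _ ξ t => ?_
    let ιG : G' ⟶ F := Abelian.image.ι i
    let b := ιG.hom.app V s
    obtain ⟨V', g, ⟨w, hw⟩, k, hk⟩ := hF V.unop b (t.left.base (default : Spec (CommRingCat.of Ω)))
    obtain ⟨t', ht'⟩ := GrothLib.LocConst.exists_fib_lift ξ g t w hw
    rw [← ht', ← GrothLib.EtSite.germ_map, map_nsmul]
    have hk' : p ^ k • G'.obj.map g.op s = 0 := by
      apply GrothLib.EtTrace21.injective_app ιG V'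
      rw [map_nsmul, map_zero]
      exact (congrArg (p ^ k • ·) (NatTrans.naturality_apply ιG.hom g.op s)).trans hk
    have hN' : N • G'.obj.map g.op s = 0 := by rw [← map_nsmul, hs, map_zero]
    have hgcd : p ^ v • G'.obj.map g.op s = 0 := by
      rw [← addOrderOf_dvd_iff_nsmul_eq_zero] at hk' hN' ⊢
      obtain ⟨r, -, hr⟩ := (Nat.dvd_prime_pow (Fact.out : p.Prime)).1 hk'
      rw [hr, hNM] at hN'
      rw [hr]
      exact (Nat.Coprime.dvd_of_dvd_mul_right
        (Nat.Coprime.pow_left r ((Nat.Prime.coprime_iff_not_dvd Fact.out).2 hM)) hN')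
    rw [hgcd, map_zero]
  have h0' : Ext.comp y (Ext.mk₀ π) (add_zero q) = 0 := van_pow h v G' hG'' (hs.of_mono (Abelian.image.ι i)) _
  rw [show i = π ≫ Abelian.image.ι i from (Abelian.image.fac i).symm, ← Ext.mk₀_comp_mk₀,
    ← Ext.comp_assoc_of_third_deg_zero, h0', Ext.zero_comp]

/-- The bound by a dimension function. -/
theorem subsingleton_H_primary (p : ℕ) [Fact p.Prime] (φ : X → ℕ)
    (h1 : ∀ x : X, KillVan (Spec (X.residueField x)) p (φ x))
    (h2 : ∀ (x y : X) (hxy : x ⤳ y), x ≠ y →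
      ∀ (R : Type u) [CommRing R] [IsLocalRing R] [Algebra (X.presheaf.stalk y) R]
        [IsLocalHom (algebraMap (X.presheaf.stalk y) R)] [Hensel.IsStrictHenselization (X.presheaf.stalk y) R],
      ∀ P ∈ ((RingHom.ker (Cyc.specMap y x hxy)).map (algebraMap (X.presheaf.stalk y) R)).minimalPrimes,
        ∃ d : ℕ, d + 1 + φ y ≤ φ x ∧ KillVan (Spec (CommRingCat.of (FractionRing (R ⧸ P)))) p d)
    (F : EtCoh.Ab X) (hF : Dix.IsPrimaryTorsion p F) (q : ℕ) (hq : ∀ x ∈ EtPBC.supp F, φ x < q) :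
    Subsingleton (EtCoh.H X F q) := by
  let E : Set X := {x | φ x < q}
  have hE : StableUnderSpecialization E := fun y y' hyy' hy => by
    rcases eq_or_ne y y' with rfl | hne
    · exact hy
    · exact (phi_lt p φ h2 hyy' hne).trans hy
  suffices h : ∀ x : EtCoh.H X F q, x = 0 from ⟨fun a b => (h a).trans (h b).symm⟩
  exact H_eq_zero_of_primary p (fun G hG hs y => van_stable (Fact.out : p.Prime).ne_zero φ hE
    (fun Z _ => van_closed p φ h1 h2 (Fact.out : p.Prime).ne_zero Z) G hG hs q (fun z hz => hz) y)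
    F hF (suppIn_of_supp_subset hq)

end GrothLib.DimFun18
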