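import Groth.Agent.Lib.CdBr2.Torsion
import Groth.Agent.Lib.GalCd.PtSupp

/-!
# Finite discrete schemes with bounded cohomological dimension
-/

set_option autoImplicit false
set_option backward.isDefEq.respectTransparency false
set_option backward.isDefEq.respectTransparency.types false
set_option linter.style.haveILetI false
set_option linter.all false

universe u

open CategoryTheory CategoryTheory.Limits CategoryTheory.Abelian AlgebraicGeometry Opposite
open GrothLib.EtSite GrothLib.EtTrace21 GrothLib.GalCd GrothLib.EtColim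

noncomputable section

namespace GrothLib.DimFun18

variable {X : Scheme.{u}}

theorem killed_map {A B : Scheme.{u}} (L : EtCoh.Ab A ⥤ EtCoh.Ab B) [L.Additive] {N : ℕ} {G : EtCoh.Ab A}
    (h : N • 𝟙 G = 0) : N • 𝟙 (L.obj G) = 0 := by
  rw [← CategoryTheory.Functor.map_id, ← Functor.map_nsmul, h, Functor.map_zero]

theorem killed_sub {A : Scheme.{u}} {N : ℕ} {G H : EtCoh.Ab A} (i : H ⟶ G) [Mono i]
    (h : N • 𝟙 G = 0) : N • 𝟙 H = 0 := by
  rw [← cancel_mono i, Preadditive.nsmul_comp, Category.id_comp, zero_comp]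
  rw [← Category.comp_id i, ← Preadditive.comp_nsmul, h, comp_zero]

/-- The stalks of `Q` off the set `S` vanish. -/
def SuppIn (Q : EtCoh.Ab X) (S : Set X) : Prop :=
  ∀ (Ω : Type u) [Field Ω] [IsSepClosed Ω] (ξ : Spec (CommRingCat.of Ω) ⟶ X),
    ξ.base (default : Spec (CommRingCat.of Ω)) ∉ S → IsZero ((EtCoh.stalk ξ).obj Q)

theorem isZero_of_suppIn_empty (Q : EtCoh.Ab X) (h : SuppIn Q ∅) : IsZero Q :=
  (IsZero.iff_id_eq_zero Q).2 (GrothLib.ExtZero.zero_of_stalks _ fun Ω _ _ ξ =>
    (h Ω ξ (Set.notMem_empty _)).eq_of_src _ _)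

/-- Finitely many closed points. -/
theorem H_eq_zero_of_suppIn {d N : ℕ}
    (hκ : ∀ (v : X) (G : EtCoh.Ab (Spec (X.residueField v))), N • 𝟙 G = 0 →
      ∀ q, d < q → Subsingleton (EtCoh.H _ G q))
    (F : Finset (ClosedPts X)) :
    ∀ (Q : EtCoh.Ab X), N • 𝟙 Q = 0 → SuppIn Q (Subtype.val '' (F : Set (ClosedPts X))) →
      ∀ q : ℕ, d < q → ∀ x : EtCoh.H X Q q, x = 0 := by
  classical
  induction F using Finset.induction_on with
  | empty =>
    intro Q _ hQ q _ x
    have h0 := isZero_of_suppIn_empty Q (by simpa using hQ)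
    rw [← Ext.comp_mk₀_id x, h0.eq_of_src (𝟙 Q) 0, Ext.mk₀_zero, Ext.comp_zero]
  | insert v F hv ih =>
    intro Q hk hQ q hq x
    let i := X.fromSpecResidueField v.1
    haveI : IsClosedImmersion i := isClosed_singleton_iff_isClosedImmersion.mp v.2
    haveI := GrothLib.EtDer.pullFL i
    haveI : (EtCoh.pull i).Additive := Functor.additive_of_preserves_binary_products _
    haveI : PreservesFiniteLimits (EtCoh.push i) :=
      ((EtCoh.pullPushAdj i).rightAdjoint_preservesLimits : PreservesLimitsOfSize.{0, 0} _).preservesFiniteLimits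
    haveI : (EtCoh.push i).Additive := Functor.additive_of_preserves_binary_products _
    let u := (EtCoh.pullPushAdj i).unit.app Q
    have hu : ∀ (Ω : Type u) [Field Ω] [IsSepClosed Ω] (ξ : Spec (CommRingCat.of Ω) ⟶ X),
        ξ.base (default : Spec (CommRingCat.of Ω)) = v.1 → IsIso ((EtCoh.stalk ξ).map u) := by
      intro Ω _ _ ξ hξ
      obtain ⟨ζ, rfl⟩ := GrothLib.CdBr2.exists_lift_residue ξ v.1 hξ
      haveI : IsIso ((EtCoh.pullPushAdj i).counit.app ((EtCoh.pull i).obj Q)) := GrothLib.EtSite.isIso_counit i _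
      have e := (EtCoh.pullPushAdj i).left_triangle_components Q
      haveI : IsIso ((EtCoh.pull i).map u ≫ (EtCoh.pullPushAdj i).counit.app ((EtCoh.pull i).obj Q)) :=
        ⟨𝟙 _, by rw [Category.comp_id]; exact e, by rw [Category.id_comp]; exact e⟩
      haveI : IsIso ((EtCoh.pull i).map u) := IsIso.of_isIso_comp_right _ ((EtCoh.pullPushAdj i).counit.app ((EtCoh.pull i).obj Q))
      exact (NatIso.isIso_map_iff (pullStalkIso ζ i) u).1 (by
        change IsIso ((EtCoh.stalk ζ).map ((EtCoh.pull i).map u))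
        infer_instance)
    have hout : ∀ (Ω : Type u) [Field Ω] [IsSepClosed Ω] (ξ : Spec (CommRingCat.of Ω) ⟶ X),
        ξ.base (default : Spec (CommRingCat.of Ω)) ≠ v.1 →
          IsZero ((EtCoh.stalk ξ).obj ((EtCoh.push i).obj ((EtCoh.pull i).obj Q))) := fun Ω _ _ ξ hξ =>
      GrothLib.EtSite.stalk_push_isZero i _ ξ (by
        rw [Scheme.range_fromSpecResidueField, Set.mem_singleton_iff]
        exact hξ)
    haveI : Epi u := Preadditive.epi_of_isZero_cokernel _ ((IsZero.iff_id_eq_zero _).2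
      (GrothLib.ExtZero.zero_of_stalks _ fun Ω _ _ ξ => by
        haveI := GrothLib.EtSite.additive_stalk ξ
        haveI := GrothLib.EtSite.preservesFiniteColimits_stalk ξ
        have hz : IsZero ((EtCoh.stalk ξ).obj (cokernel u)) := by
          haveI : Epi ((EtCoh.stalk ξ).map u) := by
            by_cases hξ : ξ.base (default : Spec (CommRingCat.of Ω)) = v.1
            · haveI := hu Ω ξ hξ
              infer_instance
            · exact ⟨fun a b _ => (hout Ω ξ hξ).eq_of_src _ _⟩
          exact IsZero.of_iso (isZero_cokernel_of_epi _) (PreservesCokernel.iso (EtCoh.stalk ξ) u)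
        exact hz.eq_of_src _ _))
    let T := ShortComplex.mk (kernel.ι u) u (kernel.condition u)
    have hT : T.ShortExact := { exact := T.exact_of_f_is_kernel (kernelIsKernel u) }
    have hK : SuppIn T.X₁ (Subtype.val '' (F : Set (ClosedPts X))) := by
      intro Ω _ _ ξ hξ
      haveI := GrothLib.EtSite.additive_stalk ξ
      haveI := GrothLib.EtSite.preservesFiniteLimits_stalk ξ
      haveI : Mono ((EtCoh.stalk ξ).map T.f) := inferInstance
      refine IsZero.of_mono_eq_zero ((EtCoh.stalk ξ).map T.f) ?_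
      by_cases hv' : ξ.base (default : Spec (CommRingCat.of Ω)) = v.1
      · haveI := hu Ω ξ hv'
        rw [← cancel_mono ((EtCoh.stalk ξ).map u), ← Functor.map_comp, zero_comp]
        exact (congrArg _ T.zero).trans (Functor.map_zero _ _ _)
      · refine (hQ Ω ξ ?_).eq_of_tgt _ _
        rintro ⟨w, hw, hwξ⟩
        rcases Finset.mem_insert.1 hw with rfl | hw
        · exact hv' hwξ.symm
        · exact hξ ⟨w, hw, hwξ⟩
    have h2 : Ext.comp x (Ext.mk₀ u) (add_zero q) = 0 := by
      refine (Groth.Agent.S14451.result i _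
        (fun r hr => GrothLib.EtSite.isZero_Rpush_of_integral i _ r hr) q).1 ?_
      haveI := hκ v.1 _ (killed_map (EtCoh.pull i) hk) q (by omega)
      exact Subsingleton.elim _ _
    obtain ⟨y, rfl⟩ := Ext.covariant_sequence_exact₂ _ hT x h2
    haveI : Mono T.f := inferInstanceAs (Mono (kernel.ι u))
    rw [ih T.X₁ (killed_sub T.f hk) hK q hq y, Ext.zero_comp]

/-- Finite discrete schemes. -/
theorem subsingleton_H_discrete [Finite X] [T1Space X] {d N : ℕ}
    (hκ : ∀ (v : X) (G : EtCoh.Ab (Spec (X.residueField v))), N • 𝟙 G = 0 →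
      ∀ q, d < q → Subsingleton (EtCoh.H _ G q))
    (Q : EtCoh.Ab X) (hk : N • 𝟙 Q = 0) (q : ℕ) (hq : d < q) : Subsingleton (EtCoh.H X Q q) := by
  classical
  haveI : Fintype X := Fintype.ofFinite X
  let F : Finset (ClosedPts X) := Finset.univ.map ⟨fun v => (⟨v, isClosed_singleton⟩ : ClosedPts X),
    fun a b h => congrArg Subtype.val h⟩
  suffices h : ∀ x : EtCoh.H X Q q, x = 0 from ⟨fun a b => (h a).trans (h b).symm⟩
  intro x
  exact H_eq_zero_of_suppIn hκ F Q hk (fun Ω _ _ ξ hξ => absurd
    ⟨⟨_, isClosed_singleton⟩, Finset.mem_map.2 ⟨_, Finset.mem_univ _, rfl⟩, rfl⟩ hξ) q hq x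

end GrothLib.DimFun18
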